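import Cfsg.Agent.H634.SdDef_m3
import Cfsg.Agent.ODD.Red.Cl_m3
import Cfsg.Agent.H831.GenFit
import Cfsg.Agent.H438.MaxOrders
import Cfsg.Agent.S1258
import Mathlib.NumberTheory.GaussSum
import Mathlib.NumberTheory.LegendreSymbol.QuadraticChar.GaussSum
import Mathlib.Analysis.SpecialFunctions.Complex.CircleAddChar
import Cfsg.Agent.ODD.Red.Cmp
import Cfsg.Agent.S1260
import Cfsg.Agent.CharactersDeep.LinearExt
import Cfsg.Agent.H672.Ext
import Cfsg.Agent.ODD.Exc.U43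
import Cfsg.Agent.H237.OSevenC
import Cfsg.Agent.ODD.PX.D4_m3
import Cfsg.Agent.ODD.Cov.Lin
import Cfsg.Agent.FastGrp
import Cfsg.Agent.Prune
set_option linter.all false

section
prune_inst 0x7fbdeef8bfa8e9dedfff7e3fa6dccff8f1e6afffe6dff943ffe0ebbf8fdf6b024965ab8d0fea18fe0ed6603490f87b03fd7ece7fe36bdc7ffffd5ff41ffbff8fbde7b50851d488340f302fff03f0778e6f3fffffffffffffffffffffffffffbeffbdfbfeffff

-- part: ODD/Red/A89
section
prune_inst 0x4011070051160020008180582310070c085000192006bc001d104060008069b4905000f015c301f1211fca2e0404fc028110800c90210000020008e004005042184ab72c23250ad0cf4000f80f887090c00000000000000000000000000041004204010000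
set_option linter.all false
open scoped Cfsg.Agent.FastGrp

/-!
# ODD: S4789 from the rows, S4786 from S4789
-/

set_option autoImplicit false
set_option maxHeartbeats 400000

namespace Cfsg.Agent.ODD.Red

open Cfsg Cfsg.Agent.Characters Cfsg.Agent.Characters.Core

universe u

/-- `QA` for all quasisimple groups with a centre of odd order (universe `0`). -/
def AllQA : Prop :=
  ∀ (X : Type) [Group X] [Finite X], IsQuasisimple X → Odd (Nat.card (Subgroup.center X)) → QA X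

/-- The central elements of `2`-power order. -/
def Z2 (G : Type u) [Group G] (a : ℕ) : Subgroup G where
  carrier := {z | z ∈ Subgroup.center G ∧ z ^ 2 ^ a = 1}
  one_mem' := ⟨one_mem _, one_pow _⟩
  mul_mem' := fun {x y} hx hy => ⟨mul_mem hx.1 hy.1, by
    rw [Commute.mul_pow (Subgroup.mem_center_iff.1 hy.1 x), hx.2, hy.2, mul_one]⟩
  inv_mem' := fun {x} hx => ⟨inv_mem hx.1, by rw [inv_pow, hx.2, inv_one]⟩

theorem Z2_normal (G : Type u) [Group G] (a : ℕ) : (Z2 G a).Normal :=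
  ⟨fun z hz g => by
    rw [Subgroup.mem_center_iff.1 hz.1 g, mul_inv_cancel_right]
    exact hz⟩

theorem center_eq_bot_of_quasi {G : Type u} [Group G] (hG : IsQuasisimple G) :
    Subgroup.center (G ⧸ Subgroup.center G) = ⊥ := by
  have := hG.1
  have := hG.2
  rcases (inferInstance : (Subgroup.center (G ⧸ Subgroup.center G)).Normal).eq_bot_or_eq_top with h | h
  · exact h
  · exfalso
    have h1 : commutator (G ⧸ Subgroup.center G) = ⊤ := by
      have h2 := map_commutator_eq G (QuotientGroup.mk' (Subgroup.center G))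
      rw [hG.1.commutator_eq_top, MonoidHom.range_eq_top_of_surjective _ (QuotientGroup.mk'_surjective _),
        Subgroup.map_top_of_surjective _ (QuotientGroup.mk'_surjective _)] at h2
      exact h2.symm
    have h2 : commutator (G ⧸ Subgroup.center G) = ⊥ := by
      rw [commutator_def, Subgroup.commutator_top_right_eq_bot_iff_le_center, h]
    exact top_ne_bot (h1.symm.trans h2)

/-- A quasisimple group has a quotient in universe `0` with a centre of odd order and a central `2`-group as the kernel. -/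
theorem exists_odd_quot {G : Type u} [Group G] [Finite G] (hG : IsQuasisimple G) :
    ∃ (X : Type) (_ : Group X) (_ : Finite X) (φ : G →* X) (a : ℕ), Function.Surjective φ ∧
      IsQuasisimple X ∧ Odd (Nat.card (Subgroup.center X)) ∧ φ.ker = Z2 G a := by
  obtain ⟨a, m, hm, h⟩ := Nat.exists_eq_two_pow_mul_odd (Nat.card_pos (α := G)).ne'
  have := Z2_normal G a
  let e : Shrink.{0} (G ⧸ Z2 G a) ≃* G ⧸ Z2 G a := Shrink.mulEquiv
  let φ : G →* Shrink.{0} (G ⧸ Z2 G a) := e.symm.toMonoidHom.comp (QuotientGroup.mk' _)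
  have hφ : Function.Surjective φ := e.symm.surjective.comp (QuotientGroup.mk'_surjective _)
  have hker : φ.ker = Z2 G a := by
    ext z
    rw [MonoidHom.mem_ker]
    show e.symm (z : G ⧸ Z2 G a) = 1 ↔ _
    rw [map_eq_one_iff _ e.symm.injective, QuotientGroup.eq_one_iff]
  let π : Shrink.{0} (G ⧸ Z2 G a) →* G ⧸ Subgroup.center G :=
    (QuotientGroup.map (Z2 G a) (Subgroup.center G) (MonoidHom.id G) fun z hz => hz.1).comp e.toMonoidHom
  have hπ : ∀ g, π (φ g) = (g : G ⧸ Subgroup.center G) := by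
    intro g
    show QuotientGroup.map (Z2 G a) (Subgroup.center G) (MonoidHom.id G) (fun z hz => hz.1)
      (e (e.symm (g : G ⧸ Z2 G a))) = _
    rw [e.apply_symm_apply]
    rfl
  have hk : ∀ x ∈ π.ker, ∃ z ∈ Subgroup.center G, φ z = x := by
    intro x hx
    obtain ⟨g, rfl⟩ := hφ x
    rw [MonoidHom.mem_ker, hπ, QuotientGroup.eq_one_iff] at hx
    exact ⟨g, hx, rfl⟩
  have := hG.2
  have hfin : Finite (Shrink.{0} (G ⧸ Z2 G a)) := Finite.of_surjective φ hφ
  obtain ⟨h1, h2⟩ := H831.GenFit.quasisimple_of_ext (center_eq_bot_of_quasi hG) π (fun y => by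
      obtain ⟨g, rfl⟩ := QuotientGroup.mk_surjective y
      exact ⟨φ g, hπ g⟩) (fun x hx => by
      obtain ⟨z, hz, rfl⟩ := hk x hx
      rw [Subgroup.mem_center_iff]
      intro y
      obtain ⟨g, rfl⟩ := hφ y
      rw [← map_mul, ← map_mul, Subgroup.mem_center_iff.1 hz g]) (by
      have h2 := map_commutator_eq G φ
      rw [hG.1.commutator_eq_top, MonoidHom.range_eq_top_of_surjective _ hφ,
        Subgroup.map_top_of_surjective _ hφ] at h2
      exact h2.symm)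
  refine ⟨_, inferInstance, hfin, φ, a, hφ, h1, ?_, hker⟩
  refine odd_card_of_pow hm fun x => ?_
  obtain ⟨z, hz, hzx⟩ := hk x.1 (h2 ▸ x.2)
  apply Subtype.ext
  show x.1 ^ m = 1
  rw [← hzx, ← map_pow, ← MonoidHom.mem_ker, hker]
  exact ⟨pow_mem hz m, by rw [← pow_mul, mul_comm, ← h, pow_card_eq_one']⟩

/-- In a perfect group the central `2`-elements are in the kernel of the characters of odd degree. -/
theorem apply_Z2 {G : Type u} [Group G] [Finite G] (hG : commutator G = ⊤) {χ : G → ℂ}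
    (hχ : IsIrrCharacter G χ) (ho : Odd (charDegree χ)) {a : ℕ} {z : G} (hz : z ∈ Z2 G a) : χ z = χ 1 := by
  obtain ⟨c, h1, h2, h3⟩ := exists_central hχ hz.1
  have h4 : dH χ z = 1 := Abelianization.commutator_subset_ker (dH χ) (by rw [hG]; trivial)
  rw [h4, Units.val_one] at h3
  have h6 := pow_gcd_eq_one.2 ⟨h2 _ hz.2, h3.symm⟩
  rw [(Nat.Coprime.pow_left a (Nat.coprime_two_left.2 ho)).gcd_eq_one, pow_one] at h6
  have h7 := h1 1
  rwa [mul_one, h6, one_mul] at h7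

/-- **S4789 from the rows.** -/
theorem qa_all (h : AllQA) {G : Type u} [Group G] [Finite G] (hG : IsQuasisimple G) : QA G := by
  intro χ hχ ho hn
  obtain ⟨X, _, _, φ, a, hφ, hX, hZ, hk⟩ := exists_odd_quot hG
  obtain ⟨η, hη, hηχ⟩ := exists_quot φ hφ hχ fun z hz =>
    apply_Z2 hG.1.commutator_eq_top hχ ho (hk ▸ hz)
  obtain ⟨x, k, hx, hs⟩ := h X hX hZ η hη
    (by rwa [charDegree_congr (ψ := χ) (by rw [← hηχ, map_one])])
    (fun h1 => hn fun τ hτ g => by rw [← hηχ, h1 τ hτ])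
  obtain ⟨g, rfl⟩ := hφ x
  have h1 : g ^ 2 ^ k ∈ Z2 G a := by
    rw [← hk, MonoidHom.mem_ker, map_pow, ← hx, pow_orderOf_eq_one]
  have h2 : g ^ 2 ^ (k + a) = 1 := by rw [pow_add, pow_mul, h1.2]
  obtain ⟨j, -, hj⟩ := (Nat.dvd_prime_pow Nat.prime_two).1 (orderOf_dvd_of_pow_eq_one h2)
  exact ⟨g, j, hj, fun s hs' => by rw [← hηχ]; exact hs s hs'⟩

/-- The top step of the induction: a central extension of a simple group by a group of odd order. -/
theorem rat2_top (h : AllQA) {H S : Type u} [Group H] [Finite H] [Group S] [IsSimpleGroup S] (π : H →* S)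
    (hπ : Function.Surjective π) (hc : π.ker ≤ Subgroup.center H) (hodd : Odd (Nat.card π.ker)) {β : H → ℂ}
    (hβ : IsIrrCharacter H β) (ho : Odd (charDegree β)) {s : ℂ ≃+* ℂ} (hs : s Complex.I = -Complex.I)
    (hfix : ∀ x ∈ commutator H, s (β x) = β x) : Rat2 β := by
  have : Finite S := Finite.of_surjective π hπ
  by_cases hab : IsMulCommutative S
  · -- prime order
    have hp : (Nat.card S).Prime := by
      let _ : CommGroup S := { (inferInstance : Group S) with mul_comm := hab.is_comm.comm }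
      exact IsSimpleGroup.prime_card
    have hk : ∀ x : H, (x ^ Nat.card S) ^ Nat.card π.ker = 1 := by
      intro x
      have h1 : x ^ Nat.card S ∈ π.ker := by rw [MonoidHom.mem_ker, map_pow, pow_card_eq_one']
      have h2 : (⟨_, h1⟩ : π.ker) ^ Nat.card π.ker = 1 := pow_card_eq_one'
      exact congrArg Subtype.val h2
    rcases hp.eq_two_or_odd' with h2 | h2
    · refine rat2_of_exponent hodd (fun x => ?_) (isIrr_isCharacter hβ)
      rw [pow_mul, ← h2, hk]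
    · refine rat2_of_exponent (h2.mul hodd) (fun x => ?_) (isIrr_isCharacter hβ)
      rw [mul_comm, pow_mul, pow_mul, hk, one_pow]
  · have hS : Subgroup.center S = ⊥ := by
      rcases (inferInstance : (Subgroup.center S).Normal).eq_bot_or_eq_top with h | h
      · exact h
      · exact absurd ⟨⟨fun a b => Subgroup.mem_center_iff.1 (h ▸ Subgroup.mem_top b) a⟩⟩ hab
    have hcen : Subgroup.center H = π.ker := by
      refine le_antisymm (fun z hz => ?_) hc
      have h1 : π z ∈ Subgroup.center S := by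
        rw [Subgroup.mem_center_iff]
        intro y
        obtain ⟨k, rfl⟩ := hπ y
        rw [← map_mul, ← map_mul, Subgroup.mem_center_iff.1 hz k]
      rw [hS] at h1
      exact Subgroup.mem_bot.1 h1
    let e : H ⧸ Subgroup.center H ≃* S :=
      (QuotientGroup.quotientMulEquivOfEq hcen).trans (QuotientGroup.quotientKerEquivOfSurjective π hπ)
    obtain ⟨h1, h2⟩ := S1258.result (X := H) e.isSimpleGroup (fun h3 => hab ⟨⟨fun a b => by
      obtain ⟨a, rfl⟩ := e.surjective a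
      obtain ⟨b, rfl⟩ := e.surjective b
      rw [← map_mul, ← map_mul, h3.is_comm.comm]⟩⟩)
    have h3 : ∀ g : H, ∃ c ∈ Subgroup.center H, ∃ x ∈ commutator H, g = c * x := by
      intro g
      have h4 : g ∈ Subgroup.center H ⊔ commutator H := by rw [sup_comm, h1]; trivial
      obtain ⟨c, hc, x, hx, h5⟩ := Subgroup.mem_sup_of_normal_left.1 h4
      exact ⟨c, hc, x, hx, h5.symm⟩
    have h4 : IsIrrCharacter (commutator H) (fun x => β ((commutator H).subtype x)) :=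
      isIrr_comp_central _ (fun g => by
        obtain ⟨c, hc, x, hx, h5⟩ := h3 g
        exact ⟨c, hc, ⟨x, hx⟩, h5⟩) hβ
    have h5 : Rat2 (fun x => β ((commutator H).subtype x)) := by
      by_contra hcon
      obtain ⟨g, -, -, hg⟩ := qa_all h h2 _ h4 (by rwa [charDegree_congr (ψ := β) (by rw [map_one])]) hcon
      exact hg s hs (hfix g g.2)
    exact fun τ hτ => fix_of_central (Subgroup.center H) (commutator H) le_rfl (hcen ▸ hodd) h3 hβ hτ
      fun x hx => h5 τ hτ ⟨x, hx⟩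

theorem rat2_of_fix_aux (h : AllQA) (n : ℕ) : ∀ (G : Type u) [Group G] [Finite G], Nat.card G = n →
    ∀ χ : G → ℂ, IsIrrCharacter G χ → Odd (charDegree χ) → ∀ s : ℂ ≃+* ℂ, s Complex.I = -Complex.I →
      Fix s χ → Rat2 χ := by
  induction n using Nat.strong_induction_on with
  | _ n ih =>
  intro G _ _ hn
  -- determinants of odd order, `s` of `2`-power order
  suffices key : ∀ χ : G → ℂ, IsIrrCharacter G χ → Odd (charDegree χ) → OddDet χ → ∀ s : ℂ ≃+* ℂ,
      s Complex.I = -Complex.I → (∃ b : ℕ, ∀ z : ℂ, z ^ Nat.card G = 1 → (s ^ 2 ^ b) z = z) → Fix s χ → Rat2 χ by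
    intro χ hχ ho s hs hfix
    obtain ⟨δ, hδ, hd⟩ := exists_twist (isIrr_isCharacter hχ) ho fun k a h1 g => by
      apply Units.ext
      rw [Units.val_pow_eq_pow_val]
      refine sq_of_fix hs a _ (by rw [← Units.val_pow_eq_pow_val, h1, Units.val_one]) ?_
      rw [Units.val_pow_eq_pow_val, map_pow, dH_fix hχ hfix]
    obtain ⟨k, b, hk, hb⟩ := exists_odd_pow s (Nat.card_pos (α := G)).ne'
    have h1 := key _ (isIrr_lin_mul δ hχ) (by rwa [charDegree_congr (ψ := χ) (by simp)]) hd (s ^ k)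
      (pow_I_of_odd hs hk) ⟨b, hb⟩ ((fix_twist_iff hδ _ χ).2 (hfix.pow k))
    exact fun τ hτ => (fix_twist_iff hδ τ χ).1 (h1 τ hτ)
  rintro χ hχ ho hd s hs ⟨b, hb⟩ hfix
  rcases subsingleton_or_nontrivial G with hG | hG
  · exact rat2_of_odd (by rw [Nat.card_of_subsingleton (1 : G)]; exact odd_one) (isIrr_isCharacter hχ)
  obtain ⟨N, _, hS⟩ := H438.MaxOrders.exists_simple_quotient G
  have := Fintype.ofFinite N
  have hlt : ∀ T : Subgroup G, T ≠ ⊤ → Nat.card T < n := by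
    intro T hT
    rw [← hn]
    refine lt_of_le_of_ne (Subgroup.card_le_card_group T) fun h1 => hT ?_
    exact Subgroup.eq_top_of_card_eq T h1
  have hN : N ≠ ⊤ := by
    rintro rfl
    exact not_subsingleton (G ⧸ (⊤ : Subgroup G)) QuotientGroup.subsingleton_quotient_top
  obtain ⟨θ, hθ, hsθ⟩ := exists_OC_fix (X := fun n : N => χ n) (σ := s) (b := b)
    (Clifford.isCharacter_restrict N (isIrr_isCharacter hχ))
    (by rwa [charDegree_congr (ψ := χ) (by simp)]) (fun n => hfix n) fun θ hθ =>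
      fix_of_roots (Nat.card_pos (α := G)).ne' (fun n => Subtype.ext (by
        rw [SubgroupClass.coe_pow, pow_card_eq_one']; rfl)) hb (isIrr_isCharacter hθ)
  have hθ2 : Rat2 θ := ih _ (hlt N hN) N rfl θ hθ.1 hθ.2.1 s hs hsθ
  obtain ⟨T, ψ, hT, -, -, hψ, hψo, h1, h2⟩ := cliff N hχ ho hθ.1 hθ.ne_zero
  by_cases hTt : T = ⊤
  · have hinv : ∀ (g : G) (n : N), θ (MulAut.conjNormal g n) = θ n := fun g => (hT g).1 (hTt ▸ Subgroup.mem_top g)
    obtain ⟨e, he⟩ := exists_restrict N hχ hθ.1 hinv hθ.ne_zero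
    obtain ⟨H, _, _, π, β, hπ, hc, hodd, hβ, hβo, h3, h4⟩ := tri N hχ ho hd hθ.1 hinv he
    have h5 := rat2_top h π hπ hc hodd hβ hβo hs (h4 s hsθ hfix)
    exact fun τ hτ => h3 τ hτ (hθ2 τ hτ) (h5 τ hτ)
  · have h3 := ih _ (hlt T hTt) T rfl ψ hψ hψo s hs (h2 s hfix hsθ)
    exact fun τ hτ => h1 τ (h3 τ hτ)

/-- **S4786 from the rows**, Galois wording. -/
theorem rat2_of_fix (h : AllQA) {G : Type u} [Group G] [Finite G] {χ : G → ℂ} (hχ : IsIrrCharacter G χ)
    (ho : Odd (charDegree χ)) {s : ℂ ≃+* ℂ} (hs : s Complex.I = -Complex.I) (hfix : Fix s χ) : Rat2 χ :=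
  rat2_of_fix_aux h _ G rfl χ hχ ho s hs hfix

/-- **S4789**, the wording of the statement. -/
theorem s4789_of (h : AllQA) {G : Type u} [Group G] [Finite G] (hG : IsQuasisimple G) (χ : IrrCharacter G)
    (hodd : Odd (charDegree (χ : G → ℂ))) (hnot : ¬ Rat2F (χ : G → ℂ)) :
    ∃ (g : G) (k : ℕ), orderOf g = 2 ^ k ∧
      Complex.I ∈ IntermediateField.adjoin ℚ ({(χ : G → ℂ) g} : Set ℂ) := by
  obtain ⟨g, k, h1, h2⟩ := qa_all h hG _ χ.2 hodd (by rwa [← rat2F_iff (isIrr_isCharacter χ.2)])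
  exact ⟨g, k, h1, I_mem_iff.2 fun s hs h3 => h2 s hs (h3 _ rfl)⟩

/-- **S4786**, the wording of the statement. -/
theorem s4786_of (h : AllQA) {G : Type u} [Group G] [Finite G] (χ : IrrCharacter G)
    (hodd : Odd (charDegree (χ : G → ℂ))) (hnot : ¬ Rat2F (χ : G → ℂ)) :
    Complex.I ∈ IntermediateField.adjoin ℚ (Set.range (χ : G → ℂ)) := by
  refine I_mem_iff.2 fun s hs h3 => hnot ?_
  rw [rat2F_iff (isIrr_isCharacter χ.2)]
  exact rat2_of_fix h χ.2 hodd hs fun g => h3 _ ⟨g, rfl⟩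

end Cfsg.Agent.ODD.Red
end

-- part: ODD/Red/A88
section
prune_inst 0x4211054007162100000000590330030209400010000288000b0000702014b1140004201000e001c0080c8201048040028131801c0420000000a00000000060401000810001000a000280000001004000000000000000000000000000000041004200000000
set_option linter.all false
open scoped Cfsg.Agent.FastGrp

/-!
# ODD: S4788 from S4786
-/

set_option autoImplicit false
set_option maxHeartbeats 400000

namespace Cfsg.Agent.ODD.Red

open Cfsg Cfsg.Agent.Characters Cfsg.Agent.Characters.Core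

universe u

/-- A `2`-rational number is fixed by an automorphism with any prescribed action on the roots of unity of order `2 ^ a`. -/
theorem exists_fix_pow {y : ℂ} (hy : IsAlgebraic ℚ y) (h : ∀ τ, Two τ → τ y = y) (a : ℕ) {k : ℕ} (hk : Odd k) :
    ∃ σ : ℂ ≃+* ℂ, σ y = y ∧ ∀ z : ℂ, z ^ 2 ^ a = 1 → σ z = z ^ k := by
  obtain ⟨m, hm, hym⟩ := exists_cyc_of_two hy h
  have hcop : (2 ^ (a + 1)).Coprime m := Nat.Coprime.pow_left _ (Nat.coprime_two_left.2 hm)
  obtain ⟨j, hj1, hj2⟩ := Nat.chineseRemainder hcop k 1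
  have hj : j.Coprime (2 ^ a * m) := by
    refine Nat.Coprime.mul_right ?_ ?_
    · refine Nat.Coprime.pow_right _ (Nat.coprime_two_right.2 ?_)
      have h1 : j ≡ k [MOD 2] := hj1.of_dvd (dvd_pow_self 2 (Nat.succ_ne_zero a))
      rw [Nat.odd_iff] at hk ⊢
      exact Eq.trans h1 hk
    · rw [Nat.Coprime, hj2.gcd_eq]
      exact Nat.gcd_one_left m
  obtain ⟨σ, hσ⟩ := GaloisBasic.exists_ringEquiv_pow (n := 2 ^ a * m)
    (mul_ne_zero (pow_ne_zero _ two_ne_zero) hm.pos.ne') hj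
  refine ⟨σ, (mem_cyc_iff hm.pos.ne' hy).1 hym σ fun x hx => ?_, fun z hz => ?_⟩
  · rw [hσ x (by rw [mul_comm, pow_mul, hx, one_pow]), pow_eq_pow_of_modEq hj2 hx, pow_one]
  · rw [hσ z (by rw [pow_mul, hz, one_pow])]
    exact pow_eq_pow_of_modEq (hj1.of_dvd (pow_dvd_pow 2 a.le_succ)) hz

/-- Gauss sums. -/
theorem exists_sqrt_prime (p : ℕ) (hp : p.Prime) (h2 : p ≠ 2) :
    ∃ y : ℂ, y ^ 2 = (ZMod.χ₄ p : ℤ) * p ∧ ∀ τ, Two τ → τ y = y := by
  have : Fact p.Prime := ⟨hp⟩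
  have hc : ringChar (ZMod p) ≠ 2 := by rwa [ZMod.ringChar_zmod_n]
  let χ : MulChar (ZMod p) ℂ := (quadraticChar (ZMod p)).ringHomComp (Int.castRingHom ℂ)
  have h1 : χ ≠ 1 := (MulChar.ringHomComp_ne_one_iff (RingHom.injective_int _)).2 (quadraticChar_ne_one hc)
  have h3 : χ.IsQuadratic := (quadraticChar_isQuadratic (ZMod p)).comp _
  refine ⟨gaussSum χ ZMod.stdAddChar, ?_, fun τ hτ => ?_⟩
  · rw [gaussSum_sq h1 h3 (ZMod.isPrimitive_stdAddChar p), ZMod.card]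
    congr 1
    show ((quadraticChar (ZMod p) (-1) : ℤ) : ℂ) = _
    rw [quadraticChar_neg_one hc, ZMod.card]
  · rw [gaussSum, map_sum]
    refine Finset.sum_congr rfl fun a _ => ?_
    rw [map_mul, hτ p (ZMod.stdAddChar a) (hp.odd_of_ne_two h2) (by
      rw [← AddChar.map_nsmul_eq_pow, nsmul_eq_mul, ZMod.natCast_self, zero_mul, AddChar.map_zero_eq_one])]
    congr 1
    exact map_intCast τ _

theorem exists_sqrt_odd (n : ℕ) (hn : Odd n) :
    ∃ y : ℂ, y ^ 2 = (ZMod.χ₄ n : ℤ) * n ∧ ∀ τ, Two τ → τ y = y := by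
  induction n using induction_on_primes with
  | zero => exact absurd hn (by decide)
  | one => exact ⟨1, by simp, fun τ _ => map_one τ⟩
  | prime_mul p a hp ih =>
    obtain ⟨h1, h2⟩ := Nat.odd_mul.1 hn
    obtain ⟨y, hy, hy'⟩ := ih h2
    obtain ⟨x, hx, hx'⟩ := exists_sqrt_prime p hp (by rintro rfl; exact absurd h1 (by decide))
    refine ⟨x * y, ?_, fun τ hτ => by rw [map_mul, hx' τ hτ, hy' τ hτ]⟩
    rw [mul_pow, hx, hy]
    push_cast
    rw [map_mul]
    push_cast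
    ring

theorem isAlgebraic_of_sq {w : ℂ} {c : ℤ} (h : w ^ 2 = c) : IsAlgebraic ℚ w := by
  have : IsIntegral ℚ w := by
    refine IsIntegral.of_pow two_pos ?_
    rw [h, ← map_intCast (algebraMap ℚ ℂ)]
    exact isIntegral_algebraMap
  exact this.isAlgebraic

theorem not_sq_neg_one {w : ℂ} (h : w ^ 2 = -1) : ¬ ∀ τ, Two τ → τ w = w := by
  intro h1
  obtain ⟨τ, hτ, h2⟩ := exists_two_neg_I
  have h3 := h1 τ hτ
  rw [← Complex.I_sq] at h
  rcases sq_eq_sq_iff_eq_or_eq_neg.1 h with rfl | rfl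
  · exact I_ne_neg_I (h3.symm.trans h2)
  · rw [map_neg, h2, neg_neg] at h3
    exact I_ne_neg_I h3

theorem not_sq_two {w : ℂ} (h : w ^ 2 = 2 ∨ w ^ 2 = -2) : ¬ ∀ τ, Two τ → τ w = w := by
  intro h1
  have halg : IsAlgebraic ℚ w := by
    rcases h with h | h
    · exact isAlgebraic_of_sq (c := 2) (by rw [h]; norm_num)
    · exact isAlgebraic_of_sq (c := -2) (by rw [h]; norm_num)
  obtain ⟨σ, h2, h3⟩ := exists_fix_pow halg h1 3 (k := 5) (by decide)
  obtain ⟨ζ, hζ⟩ := IsAlgClosed.exists_pow_nat_eq (-1 : ℂ) (n := 4) (by norm_num)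
  have h4 : σ ζ = -ζ := by
    rw [h3 ζ (by linear_combination (ζ ^ 4 - 1) * hζ)]
    linear_combination ζ * hζ
  have h0 : w ≠ 0 := by
    rintro rfl
    rcases h with h | h <;> norm_num at h
  have h5 : σ w = -w := by
    rcases h with h | h
    · have h6 : w ^ 2 = (ζ - ζ ^ 3) ^ 2 := by rw [h]; linear_combination (2 - ζ ^ 2) * hζ
      rcases sq_eq_sq_iff_eq_or_eq_neg.1 h6 with h7 | h7
      · rw [h7, map_sub, map_pow, h4]; ring
      · rw [h7, map_neg, map_sub, map_pow, h4]; ring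
    · have h6 : w ^ 2 = (ζ + ζ ^ 3) ^ 2 := by rw [h]; linear_combination (-2 - ζ ^ 2) * hζ
      rcases sq_eq_sq_iff_eq_or_eq_neg.1 h6 with h7 | h7
      · rw [h7, map_add, map_pow, h4]; ring
      · rw [h7, map_neg, map_add, map_pow, h4]; ring
  apply h0
  linear_combination (h2.symm.trans h5) / 2

/-- A `2`-rational square root of `ε d`, `d` squarefree. -/
theorem chi_of_sq {α : ℂ} {d : ℕ} (hsq : Squarefree d) {ε : ℤ} (hε : ε = 1 ∨ ε = -1) (hα : α ^ 2 = ε * d)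
    (h : ∀ τ, Two τ → τ α = α) : ZMod.χ₄ d = ε := by
  have key : ∀ (n : ℕ) (c : ℂ), Odd n → α ^ 2 = ε * (c * n) →
      ∃ w : ℂ, w ^ 2 = ε * (ZMod.χ₄ n : ℤ) * c ∧ (ZMod.χ₄ n = 1 ∨ ZMod.χ₄ n = -1) ∧ ∀ τ, Two τ → τ w = w := by
    intro n c hn h1
    obtain ⟨y, hy, hy'⟩ := exists_sqrt_odd n hn
    have h2 : ZMod.χ₄ n = 1 ∨ ZMod.χ₄ n = -1 := by
      rcases Nat.odd_mod_four_iff.1 (Nat.odd_iff.1 hn) with h3 | h3
      · exact .inl (ZMod.χ₄_nat_one_mod_four h3)
      · exact .inr (ZMod.χ₄_nat_three_mod_four h3)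
    have hn0 : (n : ℂ) ≠ 0 := by exact_mod_cast hn.pos.ne'
    refine ⟨α / y, ?_, h2, fun τ hτ => by rw [map_div₀, h τ hτ, hy' τ hτ]⟩
    rw [div_pow, h1, hy]
    rcases h2 with h2 | h2 <;> rw [h2] <;> push_cast <;> field_simp
  rcases Nat.even_or_odd d with hd | hd
  · exfalso
    obtain ⟨n, rfl⟩ := hd.two_dvd
    have hn : Odd n := by
      by_contra hcon
      obtain ⟨j, rfl⟩ := (Nat.not_odd_iff_even.1 hcon).two_dvd
      have h1 := hsq 2 ⟨j, by ring⟩
      rw [Nat.isUnit_iff] at h1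
      omega
    obtain ⟨w, h1, h2, h3⟩ := key n 2 hn (by rw [hα]; push_cast; ring)
    refine not_sq_two ?_ h3
    rcases hε with rfl | rfl <;> rcases h2 with h2 | h2 <;> rw [h1, h2] <;> norm_num
  · obtain ⟨w, h1, h2, h3⟩ := key d 1 hd (by rw [hα, one_mul])
    by_contra hcon
    refine not_sq_neg_one ?_ h3
    rcases hε with rfl | rfl <;> rcases h2 with h2 | h2
    · exact absurd h2 hcon
    · rw [h1, h2]; norm_num
    · rw [h1, h2]; norm_num
    · exact absurd h2 hcon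

theorem mod_four_of_chi {d : ℕ} : (ZMod.χ₄ d = 1 → d % 4 = 1) ∧ (ZMod.χ₄ d = -1 → d % 4 = 3) := by
  rw [ZMod.χ₄_nat_eq_if_mod_four]
  constructor <;> intro h <;> split_ifs at h <;> omega

/-- **S4788**, the wording of the statement. -/
theorem s4788_of (h : AllQA) {G : Type u} [Group G] [Finite G] (χ : IrrCharacter G)
    (hodd : Odd (charDegree (χ : G → ℂ))) (d : ℕ) (hd : 1 < d) (hsq : Squarefree d) :
    ((IntermediateField.adjoin ℚ (Set.range (χ : G → ℂ)) : IntermediateField ℚ ℂ) =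
        IntermediateField.adjoin ℚ ({((Real.sqrt d : ℝ) : ℂ)} : Set ℂ) → d % 4 = 1) ∧
      ((IntermediateField.adjoin ℚ (Set.range (χ : G → ℂ)) : IntermediateField ℚ ℂ) =
        IntermediateField.adjoin ℚ ({Complex.I * ((Real.sqrt d : ℝ) : ℂ)} : Set ℂ) → d % 4 = 3) := by
  have hr : ((Real.sqrt d : ℝ) : ℂ) ^ 2 = d := by
    rw [← Complex.ofReal_pow, Real.sq_sqrt (Nat.cast_nonneg d), Complex.ofReal_natCast]
  have key : ∀ α : ℂ, (IntermediateField.adjoin ℚ (Set.range (χ : G → ℂ)) : IntermediateField ℚ ℂ) =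
      IntermediateField.adjoin ℚ ({α} : Set ℂ) → (∃ s : ℂ ≃+* ℂ, s Complex.I = -Complex.I ∧ s α = α) →
      ∀ τ, Two τ → τ α = α := by
    rintro α h1 ⟨s, hs, hsα⟩ τ hτ
    have h2 : Fix s (χ : G → ℂ) := fun g => fixed_of_mem_adjoin (S := {α}) (by rintro _ rfl; exact hsα)
      (h1 ▸ IntermediateField.subset_adjoin ℚ _ ⟨g, rfl⟩)
    have h3 := rat2_of_fix h χ.2 hodd hs h2 τ hτ
    exact fixed_of_mem_adjoin (S := Set.range (χ : G → ℂ)) (by rintro _ ⟨g, rfl⟩; exact h3 g)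
      (h1 ▸ IntermediateField.mem_adjoin_simple_self ℚ α)
  constructor
  · intro h1
    refine mod_four_of_chi.1 (chi_of_sq hsq (.inl rfl) (by rw [hr]; simp) (key _ h1 ?_))
    exact ⟨Complex.conjAe.toRingEquiv, Complex.conj_I, Complex.conj_ofReal _⟩
  · intro h1
    refine mod_four_of_chi.2 (chi_of_sq hsq (.inr rfl) (by rw [mul_pow, hr, Complex.I_sq]; simp) (key _ h1 ?_))
    by_contra hcon
    have h2 : ∀ σ : ℂ ≃+* ℂ, σ ((Real.sqrt d : ℝ) : ℂ) = ((Real.sqrt d : ℝ) : ℂ) := by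
      have h3 : ∀ s : ℂ ≃+* ℂ, s Complex.I = -Complex.I → s ((Real.sqrt d : ℝ) : ℂ) = ((Real.sqrt d : ℝ) : ℂ) := by
        intro s hs
        have h4 : s ((Real.sqrt d : ℝ) : ℂ) ^ 2 = ((Real.sqrt d : ℝ) : ℂ) ^ 2 := by
          rw [← map_pow, hr, map_natCast]
        refine (sq_eq_sq_iff_eq_or_eq_neg.1 h4).resolve_right fun h5 => hcon ⟨s, hs, ?_⟩
        rw [map_mul, hs, h5, neg_mul_neg]
      intro σ
      rcases map_I σ with h4 | h4
      · have h5 := h3 (Complex.conjAe.toRingEquiv.trans σ) (by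
          show σ (starRingEnd ℂ Complex.I) = _
          rw [Complex.conj_I, map_neg, h4])
        have h6 : σ (starRingEnd ℂ ((Real.sqrt d : ℝ) : ℂ)) = _ := h5
        rwa [Complex.conj_ofReal] at h6
      · exact h3 σ h4
    obtain ⟨q, hq⟩ := GaloisBasic.exists_rat_of_forall_ringEquiv
      (isAlgebraic_of_sq (c := d) (by rw [hr]; simp)).isIntegral h2
    have h3 : Irrational (Real.sqrt d) := by
      rw [irrational_sqrt_natCast_iff]
      rintro ⟨j, rfl⟩
      have h4 := hsq j dvd_rfl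
      rw [Nat.isUnit_iff] at h4
      rw [h4] at hd
      exact lt_irrefl _ hd
    exact h3 ⟨q, by exact_mod_cast hq.symm⟩

end Cfsg.Agent.ODD.Red
end

-- part: ODD/Red/A87
section
prune_inst 0x40100300500401200001805821100704084000092006b8001d100060008029b690000270114201e121138a2e040098008110000c90208000020000e004001002080a352822340a10ce4000f80f883090c00000000000000000000000000041004004010000
set_option linter.all false
open scoped Cfsg.Agent.FastGrp

/-!
# ODD: S4787 (from left to right) from the rows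
-/

set_option autoImplicit false
set_option maxHeartbeats 400000

namespace Cfsg.Agent.ODD.Red

open Cfsg Cfsg.Agent.Characters Cfsg.Agent.Characters.Core Subgroup
open Cfsg.Agent.Lib.MinNormal Cfsg.Agent.Lib.MinNormalNonabelian Cfsg.Agent.H643.Sd

universe u

/-- `QB` for all quasisimple groups with a centre of odd order (universe `0`). -/
def AllQB : Prop :=
  ∀ (X : Type) [Group X] [Finite X], IsQuasisimple X → Odd (Nat.card (Subgroup.center X)) → QB X

theorem qb_all (h : AllQB) {X : Type u} [Group X] [Finite X] (hX : IsQuasisimple X)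
    (hZ : Odd (Nat.card (center X))) : QB X := by
  let e : Shrink.{0} X ≃* X := Shrink.mulEquiv
  have : Finite (Shrink.{0} X) := Finite.of_equiv _ e.symm.toEquiv
  have h1 := S1260.isQuasisimple_of_mulEquiv e.symm hX
  refine Cv.qb_congr h1.1.commutator_eq_top e.symm (h _ h1 (odd_card_of_pow hZ fun z => ?_))
  have h2 : e z ∈ center X := by
    rw [mem_center_iff]
    intro y
    obtain ⟨k, rfl⟩ := e.surjective y
    rw [← map_mul, ← map_mul, mem_center_iff.1 z.2 k]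
  have h3 : (⟨_, h2⟩ : center X) ^ Nat.card (center X) = 1 := pow_card_eq_one'
  have h4 : e z ^ Nat.card (center X) = 1 := congrArg Subtype.val h3
  apply Subtype.ext
  apply e.injective
  rw [SubgroupClass.coe_pow, map_pow, h4, OneMemClass.coe_one, map_one]

variable {G : Type u} [Group G] [Finite G]

/-- Linear characters of `2`-power order. -/
theorem sq_of_elem (hG : Elem G) (l : G →* ℂˣ) {a : ℕ} (h : ∀ g, l g ^ 2 ^ a = 1) (g : G) : l g ^ 2 = 1 := by
  have : Fact (Nat.Prime 2) := ⟨Nat.prime_two⟩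
  obtain ⟨b, m, hm, hc⟩ := Nat.exists_eq_two_pow_mul_odd (Nat.card_pos (α := G)).ne'
  have h1 : IsPGroup 2 (zpowers (g ^ m)) := by
    rintro ⟨_, k, rfl⟩
    refine ⟨b, Subtype.ext ?_⟩
    show ((g ^ m) ^ k) ^ 2 ^ b = 1
    rw [← zpow_natCast, ← zpow_mul, mul_comm, zpow_mul, zpow_natCast, ← pow_mul, mul_comm, ← hc, pow_card_eq_one',
      one_zpow]
  obtain ⟨P, hP⟩ := h1.exists_le_sylow
  have h3 : l (g ^ m) ^ 2 = 1 := hG P (l.comp (P : Subgroup G).subtype) ⟨g ^ m, hP (mem_zpowers _)⟩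
  have h4 : (l g ^ 2) ^ m = 1 := by rw [← pow_mul, mul_comm, pow_mul, ← map_pow, h3]
  have h5 : (l g ^ 2) ^ 2 ^ a = 1 := by rw [← pow_mul, mul_comm, pow_mul, h, one_pow]
  have h6 := pow_gcd_eq_one.2 ⟨h5, h4⟩
  rwa [(Nat.Coprime.pow_left a (Nat.coprime_two_left.2 hm)).gcd_eq_one, pow_one] at h6

omit [Finite G] in
theorem Cmp.le_normalizer {N X : Subgroup G} (c : Cmp N X) : N ≤ normalizer (X : Set G) := by
  intro n hn
  obtain ⟨a, ha, b, hb, rfl⟩ := c.gen n hn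
  exact mul_mem (X.le_normalizer ha) (centralizer_le_normalizer _ hb)

/-- The Sylow subgroup `P ∩ X` of a component. -/
theorem Cmp.exists_sylow {N X : Subgroup G} [N.Normal] (c : Cmp N X) (P : Sylow 2 G) :
    ∃ Q : Sylow 2 X, ∀ x : X, x ∈ (Q : Subgroup X) ↔ (x : G) ∈ (P : Subgroup G) := by
  have : Fact (Nat.Prime 2) := ⟨Nat.prime_two⟩
  have h1 : (X.subgroupOf N).Normal := (normal_subgroupOf_iff_le_normalizer c.le).2 c.le_normalizer
  refine ⟨(P.2.comap_subtype (K := X) : IsPGroup 2 ((P : Subgroup G).subgroupOf X)).toSylow fun h => ?_,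
    fun x => Iff.rfl⟩
  have h2 : (P : Subgroup G).relIndex X ∣ (P : Subgroup G).relIndex N := by
    rw [← relIndex_subgroupOf c.le]
    exact relIndex_dvd_index _ _
  exact P.not_dvd_index ((h.trans h2).trans (relIndex_dvd_index _ _))

/-- The transfer argument: a linear character of the group of automorphisms of a component induced by `N_P(X)` is real
on the inner automorphisms. -/
theorem Cmp.sq_inner {N X : Subgroup G} [N.Normal] (c : Cmp N X) {P : Subgroup G} (hP : Lin2 P)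
    (ϕ : ((normalizer (X : Set G)).subgroupOf P) →* ℂˣ)
    (hϕ : ∀ q : ((normalizer (X : Set G)).subgroupOf P), ((q : P) : G) ∈ centralizer (X : Set G) → ϕ q = 1)
    (x : ((normalizer (X : Set G)).subgroupOf P)) (hx : ((x : P) : G) ∈ X) : ϕ x ^ 2 = 1 := by
  classical
  let Q := (normalizer (X : Set G)).subgroupOf P
  have hle : N.subgroupOf P ≤ Q := fun y hy => c.le_normalizer hy
  obtain ⟨T⟩ : Nonempty Q.LeftTransversal := inferInstance
  have h1 := CharactersDeep.LinearExt.transfer_apply_of_mem_normal (N.subgroupOf P) Q hle ϕ (x : P) (c.le hx) T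
  have h2 := hP (MonoidHom.transfer ϕ) (x : P)
  rw [h1, Finset.prod_eq_single ((1 : P) : P ⧸ Q)] at h2
  · have h3 : ((T.2.leftQuotientEquiv ((1 : P) : P ⧸ Q) : P) : P ⧸ Q) = ((1 : P) : P ⧸ Q) :=
      T.2.quotientGroupMk_leftQuotientEquiv _
    rw [QuotientGroup.eq, mul_one, inv_mem_iff] at h3
    have h4 : ϕ ((⟨_, h3⟩ : Q)⁻¹ * x * ⟨_, h3⟩) ^ 2 = 1 := h2
    rwa [map_mul, map_mul, mul_right_comm, ← map_mul, inv_mul_cancel, map_one, one_mul] at h4
  · intro q _ hq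
    have h3 : ((T.2.leftQuotientEquiv q : P) : P ⧸ Q) = q := T.2.quotientGroupMk_leftQuotientEquiv _
    refine hϕ _ ?_
    rcases c.conj ((T.2.leftQuotientEquiv q : P) : G)⁻¹ with h | h
    · exfalso
      apply hq
      rw [← h3, QuotientGroup.eq, mul_one]
      exact h
    · rw [mem_centralizer_iff]
      intro y hy
      have h4 := h _ hx y hy
      rw [inv_inv] at h4
      exact h4.symm
  · intro h
    exact absurd (@Finset.mem_univ _ Q.fintypeQuotientOfFiniteIndex _) h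

/-- One component. -/
theorem Cmp.fix (h : AllQB) {N X : Subgroup G} [N.Normal] (c : Cmp N X) (P : Sylow 2 G) (hP : Lin2 (P : Subgroup G))
    {θ : N → ℂ} (hθ : IsIrrCharacter N θ) (ho : Odd (charDegree θ))
    (hinv : ∀ g ∈ (P : Subgroup G), ∀ n : N, θ (MulAut.conjNormal g n) = θ n) {τ : ℂ ≃+* ℂ} (hτ : Two τ)
    (x : N) (hx : (x : G) ∈ X) : τ (θ x) = θ x := by
  have := Fintype.ofFinite X
  let j : X →* N := inclusion c.le
  have hθc := isIrr_isCharacter hθ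
  obtain ⟨η, hη, -⟩ := exists_OC_inv (X := fun y : X => θ (j y)) (isCharacter_comp' j hθc)
    (by rwa [charDegree_congr (ψ := θ) (by rw [map_one])]) (Γ := (⊥ : Subgroup G)) IsPGroup.of_bot 1
    (fun _ _ => rfl)
  obtain ⟨e, he, hee⟩ := hη.2.2
  have h1 : θ ∘ j = classInner (θ ∘ j) η • η := by
    refine H672.comp_eq_smul_of_invariant_hom j (inclusion_injective c.le) ?_ hθ hη.1 ?_ hη.ne_zero
    · rw [inclusion_range]
      exact (normal_subgroupOf_iff_le_normalizer c.le).2 c.le_normalizer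
    · intro k y y' hy
      obtain ⟨a, ha, b, hb, hk⟩ := c.gen k k.2
      have h2 : (y' : G) = k * y * (k : G)⁻¹ := congrArg Subtype.val hy
      have h3 : y' = (⟨a, ha⟩ : X) * y * (⟨a, ha⟩ : X)⁻¹ := by
        apply Subtype.ext
        show (y' : G) = a * y * a⁻¹
        rw [h2, hk, mul_inv_rev, mul_assoc a b, ← mem_centralizer_iff.1 hb y y.2]
        group
      obtain ⟨n, ρ, -, rfl⟩ := hη.1
      rw [h3]
      exact Representation.char_conj ρ _ _
  have h2 : ∀ y : X, θ (j y) = e * η y := by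
    intro y
    have h3 := congrFun h1 y
    have h4 : classInner (θ ∘ j) η = e := hee
    rw [h4] at h3
    exact h3
  have he0 : (e : ℂ) ≠ 0 := by exact_mod_cast he.pos.ne'
  suffices h3 : Rat2 η by
    have h4 := h2 ⟨x, hx⟩
    have h5 : j ⟨x, hx⟩ = x := rfl
    rw [h5] at h4
    rw [h4, map_mul, map_natCast, h3 τ hτ]
  by_contra hcon
  obtain ⟨Q, hQ⟩ := c.exists_sylow P
  let R : Subgroup (P : Subgroup G) := (normalizer (X : Set G)).subgroupOf P
  let φ : R →* MulAut X := X.normalizerMonoidHom.comp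
    (((P : Subgroup G).subtype.comp R.subtype).codRestrict (normalizer (X : Set G)) fun q => q.2)
  have hφ : ∀ (q : R) (y : X), ((φ q y : X) : G) = ((q : (P : Subgroup G)) : G) * y * ((q : (P : Subgroup G)) : G)⁻¹ :=
    fun q y => rfl
  have hin : ∀ (y : X) (hy : y ∈ (Q : Subgroup X)),
      φ ⟨⟨y, (hQ y).1 hy⟩, X.le_normalizer y.2⟩ = MulAut.conj y := fun y hy =>
    MulEquiv.ext fun z => Subtype.ext rfl
  have ctx : Ctx Q φ.range :=
    { isP := (P.2.to_subgroup R).of_surjective φ.rangeRestrict φ.rangeRestrict_surjective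
      inner := fun y hy => ⟨_, hin y hy⟩
      stab := by
        rintro _ ⟨q, rfl⟩ y hy
        rw [hQ, hφ]
        exact mul_mem (mul_mem q.1.2 ((hQ y).1 hy)) (inv_mem q.1.2) }
  obtain ⟨f, y, hy, hf⟩ := qb_all h c.qs c.odd Q φ.range ctx η hη.1 hη.2.1 (by
    rintro _ ⟨q, rfl⟩ z
    apply mul_left_cancel₀ he0
    rw [← h2, ← h2, ← hinv _ q.1.2 (j z)]
    rfl) hcon
  apply hf
  have h3 := c.sq_inner hP (f.comp φ.rangeRestrict) (fun q hq => by
    have h4 : φ.rangeRestrict q = 1 := by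
      apply Subtype.ext
      refine MulEquiv.ext fun z => Subtype.ext ?_
      show ((φ q z : X) : G) = z
      rw [hφ, ← mem_centralizer_iff.1 hq z z.2, mul_inv_cancel_right]
    rw [MonoidHom.comp_apply, h4, map_one]) ⟨⟨y, (hQ y).1 hy⟩, X.le_normalizer y.2⟩ y.2
  have h4 : φ.rangeRestrict ⟨⟨y, (hQ y).1 hy⟩, X.le_normalizer y.2⟩ = ⟨MulAut.conj y, ctx.inner y hy⟩ :=
    Subtype.ext (hin y hy)
  rwa [MonoidHom.comp_apply, h4] at h3

/-- All components. -/
theorem rat2_of_cmp {N C : Subgroup G} (hC : C ≤ center G) (hodd : Odd (Nat.card C)) {s : Set (Subgroup G)}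
    (h1 : ∀ X ∈ s, Cmp N X) (h2 : ∀ X ∈ s, ∀ Y ∈ s, X ≠ Y → Y ≤ centralizer (X : Set G)) (h3 : N ≤ C ⊔ sSup s)
    {θ : N → ℂ} (hθ : IsIrrCharacter N θ) {τ : ℂ ≃+* ℂ} (hτ : Two τ)
    (h4 : ∀ X ∈ s, ∀ x : N, (x : G) ∈ X → τ (θ x) = θ x) : Fix τ θ := by
  have hθc := isIrr_isCharacter hθ
  have h0 : θ 1 ≠ 0 := isIrr_apply_one_ne_zero hθ
  have hone : τ (θ 1) = θ 1 := by rw [apply_one hθc, map_natCast]
  have key : ∀ t : Set (Subgroup G), t.Finite → t ⊆ s → ∀ n : N, (n : G) ∈ C ⊔ sSup t → τ (θ n) = θ n := by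
    intro t ht
    induction t, ht using Set.Finite.induction_on with
    | empty =>
      intro _ n hn
      rw [sSup_empty, sup_bot_eq] at hn
      obtain ⟨z, h5, h6, -⟩ := exists_central hθ (z := n)
        (mem_center_iff.2 fun y => Subtype.ext (mem_center_iff.1 (hC hn) y))
      have h7 : (⟨_, hn⟩ : C) ^ Nat.card C = 1 := pow_card_eq_one'
      have h8 : (n : G) ^ Nat.card C = 1 := congrArg Subtype.val h7
      have h9 := h5 1
      rw [mul_one] at h9
      rw [h9, map_mul, hone, hτ _ z hodd (h6 _ (Subtype.ext h8))]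
    | @insert X t hX _ ih =>
      intro hsub n hn
      have hXs : X ∈ s := hsub (Set.mem_insert _ _)
      have hts : t ⊆ s := (Set.subset_insert _ _).trans hsub
      have c := h1 X hXs
      have hB : C ⊔ sSup t ≤ centralizer (X : Set G) :=
        sup_le (hC.trans (center_le_centralizer _))
          (sSup_le fun Y hY => h2 X hXs Y (hts hY) fun h => hX (h ▸ hY))
      rw [sSup_insert, sup_left_comm] at hn
      obtain ⟨a, ha, b, hb, hab⟩ := mem_sup_of_comm hB hn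
      have hbN : b ∈ N := by
        have h5 : b = a⁻¹ * n := by rw [hab, inv_mul_cancel_left]
        rw [h5]
        exact mul_mem (inv_mem (c.le ha)) n.2
      have h5 : n = (⟨a, c.le ha⟩ : N) * ⟨b, hbN⟩ := Subtype.ext hab
      have h6 := mul_formula hθ (a := ⟨a, c.le ha⟩) (b := ⟨b, hbN⟩) fun y => by
        obtain ⟨a', ha', d, hd, hy⟩ := c.gen y y.2
        refine ⟨⟨a', c.le ha'⟩, Subtype.ext ?_⟩
        show (y : G) * a * (y : G)⁻¹ * b = a' * (a * b) * a'⁻¹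
        have h7 := mem_centralizer_iff.1 hd a ha
        have h8 := mem_centralizer_iff.1 (hB hb) _ (inv_mem ha')
        rw [hy, mul_inv_rev, mul_assoc a' d, ← h7]
        calc a' * (a * d) * (d⁻¹ * a'⁻¹) * b = a' * a * (a'⁻¹ * b) := by group
          _ = a' * (a * b) * a'⁻¹ := by rw [h8]; group
      rw [← h5] at h6
      have h7 := congrArg τ h6
      rw [map_mul, map_mul, hone, h4 X hXs ⟨a, c.le ha⟩ ha, ih hts ⟨b, hbN⟩ hb, ← h6] at h7
      exact mul_right_cancel₀ h0 h7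
  exact fun n => key s (Set.toFinite s) subset_rfl n (h3 n.2)

omit [Group G] [Finite G] in
theorem rat2_of_elem_aux (h : AllQB) (n : ℕ) : ∀ (G : Type u) [Group G] [Finite G] (C : Subgroup G),
    C ≤ center G → Odd (Nat.card C) → C.index = n → Elem G →
    ∀ χ : G → ℂ, IsIrrCharacter G χ → Odd (charDegree χ) → Rat2 χ := by
  induction n using Nat.strong_induction_on with
  | _ n ih =>
  intro G _ _ C hC hodd hn hG
  have : Fact (Nat.Prime 2) := ⟨Nat.prime_two⟩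
  suffices key : ∀ χ : G → ℂ, IsIrrCharacter G χ → Odd (charDegree χ) → OddDet χ → Rat2 χ by
    intro χ hχ ho
    obtain ⟨δ, hδ, hd⟩ := exists_twist (isIrr_isCharacter hχ) ho fun k a h1 g =>
      sq_of_elem hG ((powMonoidHom k).comp (dH χ)) h1 g
    have h1 := key _ (isIrr_lin_mul δ hχ) (by rwa [charDegree_congr (ψ := χ) (by simp)]) hd
    exact fun τ hτ => (fix_twist_iff hδ τ χ).1 (h1 τ hτ)
  intro χ hχ ho hd
  by_cases hC1 : C = ⊤
  · exact rat2_of_odd (by rwa [hC1, card_top] at hodd) (isIrr_isCharacter hχ)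
  have hCn : C.Normal := ⟨fun z hz g => by rwa [mem_center_iff.1 (hC hz) g, mul_inv_cancel_right]⟩
  let π : G →* G ⧸ C := QuotientGroup.mk' C
  have hπ : Function.Surjective π := QuotientGroup.mk'_surjective C
  have hker : π.ker = C := QuotientGroup.ker_mk' C
  have hnt : (⊤ : Subgroup (G ⧸ C)) ≠ ⊥ := by
    intro h1
    apply hC1
    rw [← hker, ← MonoidHom.comap_bot, ← h1, comap_top]
  obtain ⟨M, -, hM0, hMn, hMm⟩ := exists_minimal_normal_le (⊤ : Subgroup (G ⧸ C)) hnt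
  have hM : M.Normal := normalizer_eq_top_iff.1 (eq_top_iff.2 hMn)
  have hmin : ∀ K : Subgroup (G ⧸ C), K.Normal → K ≤ M → K = ⊥ ∨ K = M := fun K hK hKM =>
    hMm K hKM (normalizer_eq_top_iff.2 hK).ge
  let N := M.comap π
  have hN : N.Normal := hM.comap π
  have hCN : C ≤ N := fun z hz => by
    have h1 : π z = 1 := (QuotientGroup.eq_one_iff z).2 hz
    show π z ∈ M
    rw [h1]
    exact one_mem M
  have := Fintype.ofFinite N
  obtain ⟨P⟩ : Nonempty (Sylow 2 G) := inferInstance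
  obtain ⟨θ, hθ, hinv⟩ := exists_OC_inv (X := fun n : N => χ n)
    (Clifford.isCharacter_restrict N (isIrr_isCharacter hχ))
    (by rwa [charDegree_congr (ψ := χ) (by simp)]) P.2 (MulAut.conjNormal.comp (P : Subgroup G).subtype)
    (fun g n => by
      obtain ⟨d, ρ, -, rfl⟩ := hχ
      exact Representation.char_conj ρ _ _)
  have hθ2 : Rat2 θ := by
    by_cases hab : ∀ x ∈ M, ∀ y ∈ M, Commute x y
    · obtain ⟨p, hp, -, hpow⟩ := abelian_structure M hM0 hmin hab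
      have hk : ∀ x : N, (x ^ p) ^ Nat.card C = 1 := by
        intro x
        have h1 : (x : G) ^ p ∈ C := by
          rw [← hker, MonoidHom.mem_ker, map_pow]
          exact hpow _ x.2
        have h2 : (⟨_, h1⟩ : C) ^ Nat.card C = 1 := pow_card_eq_one'
        have h3 : ((x : G) ^ p) ^ Nat.card C = 1 := congrArg Subtype.val h2
        exact Subtype.ext h3
      rcases hp.eq_two_or_odd' with h2 | h2
      · refine rat2_of_exponent hodd (fun x => ?_) (isIrr_isCharacter hθ.1)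
        rw [pow_mul, ← h2, hk]
      · refine rat2_of_exponent (h2.mul hodd) (fun x => ?_) (isIrr_isCharacter hθ.1)
        rw [mul_comm, pow_mul, pow_mul, hk, one_pow]
    · obtain ⟨s, h1, h2, h3⟩ := exists_cmp hπ (hker.le.trans hC) (by rw [hker]; exact hodd) M hmin hab
      rw [hker] at h3
      exact fun τ hτ => rat2_of_cmp hC hodd h1 h2 h3 hθ.1 hτ fun X hX x hx =>
        (h1 X hX).fix h P (hG P) hθ.1 hθ.2.1 (fun g hg n => hinv ⟨g, hg⟩ n) hτ x hx
  obtain ⟨T, ψ, hT, hNT, hTi, hψ, hψo, h1, -⟩ := cliff N hχ ho hθ.1 hθ.ne_zero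
  have hpos : 0 < n := by rw [← hn]; exact Nat.pos_of_ne_zero index_ne_zero_of_finite
  by_cases hTt : T = ⊤
  · have hinv' : ∀ (g : G) (n : N), θ (MulAut.conjNormal g n) = θ n := fun g => (hT g).1 (hTt ▸ mem_top g)
    obtain ⟨e, he⟩ := exists_restrict N hχ hθ.1 hinv' hθ.ne_zero
    obtain ⟨H, _, _, ρ, β, hρ, hc, hodd', hβ, hβo, h3, -⟩ := tri N hχ ho hd hθ.1 hinv' he
    have h4 : ρ.ker.index < n := by
      rw [index_ker, MonoidHom.range_eq_top_of_surjective ρ hρ, card_top, ← index_eq_card, ← hn,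
        ← relIndex_mul_index hCN]
      refine lt_mul_of_one_lt_left (Nat.pos_of_ne_zero index_ne_zero_of_finite) ?_
      refine lt_of_le_of_ne (Nat.one_le_iff_ne_zero.2 index_ne_zero_of_finite) fun h5 => hM0 ?_
      have h6 : N ≤ C := relIndex_eq_one.1 h5.symm
      rw [eq_bot_iff]
      intro y hy
      obtain ⟨g, rfl⟩ := hπ y
      exact mem_bot.2 ((QuotientGroup.eq_one_iff g).2 (h6 hy))
    have h5 : Elem H := elem_of_odd_normal ρ.ker hodd'
      ((hG.quotient N).congr (QuotientGroup.quotientKerEquivOfSurjective ρ hρ).symm)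
    have h6 := ih _ h4 H ρ.ker hc hodd' rfl h5 β hβ hβo
    exact fun τ hτ => h3 τ hτ (hθ2 τ hτ) (h6 τ hτ)
  · have h4 : (C.subgroupOf T).index < n := by
      rw [← hn, ← relIndex_mul_index (hCN.trans hNT)]
      refine lt_mul_of_one_lt_right (Nat.pos_of_ne_zero index_ne_zero_of_finite) ?_
      exact lt_of_le_of_ne (Nat.one_le_iff_ne_zero.2 index_ne_zero_of_finite) fun h5 => hTt (index_eq_one.1 h5.symm)
    have h5 := ih _ h4 T (C.subgroupOf T)
      (fun z hz => mem_center_iff.2 fun y => Subtype.ext (mem_center_iff.1 (hC hz) y))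
      (by rwa [Nat.card_congr (subgroupOfEquivOfLe (hCN.trans hNT)).toEquiv]) rfl (hG.of_odd_index T hTi) ψ hψ hψo
    exact fun τ hτ => h1 τ (h5 τ hτ)

/-- **S4787, from left to right, from the rows**, Galois wording. -/
theorem rat2_of_elem (h : AllQB) (hG : Elem G) {χ : G → ℂ} (hχ : IsIrrCharacter G χ) (ho : Odd (charDegree χ)) :
    Rat2 χ :=
  rat2_of_elem_aux h _ G ⊥ bot_le (by rw [card_bot]; exact odd_one) rfl hG χ hχ ho

/-- **S4787** from the rows and the converse (`hSD`). -/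
theorem s4787_of (h : AllQB)
    (hSD : ¬ Elem G → ∃ χ : G → ℂ, IsIrrCharacter G χ ∧ Odd (charDegree χ) ∧ ¬ Rat2 χ) (P : Sylow 2 G) :
    (∀ x ∈ (P : Subgroup G), x ^ 2 ∈ ⁅(P : Subgroup G), (P : Subgroup G)⁆) ↔
      ∀ χ : IrrCharacter G, Odd (charDegree (χ : G → ℂ)) → Rat2F (χ : G → ℂ) := by
  constructor
  · intro h1 χ ho
    rw [rat2F_iff (isIrr_isCharacter χ.2)]
    exact rat2_of_elem h (elem_of_sylow P (lin2_of_mem h1)) χ.2 ho
  · intro h1 x hx
    by_contra hcon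
    obtain ⟨χ, h2, h3, h4⟩ := hSD fun h5 => hcon (sq_mem_comm (h5 P) hx)
    exact h4 (h1 ⟨χ, h2⟩ h3).rat2

end Cfsg.Agent.ODD.Red
end

-- part: ODD/Exc/O7A
section
prune_inst 0x42110740551221200001c0010120050e19100010200488000204407020149ca68a54228010830051298a00040280500281318010040000000000000000005040100005000b348010cc40008800000010000000000000000000000000000000000204010000
set_option linter.all false
open scoped Cfsg.Agent.FastGrp

/-!
# ODD-EXC: planes `⟨u, J u⟩` with `J² = -1` in a quadratic space over the field with three elements (helper87)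
-/

set_option autoImplicit false

namespace Cfsg.Agent.ODD.Exc

open QuadraticMap Module Cfsg.Agent.LieClassical.OrthCore Cfsg.Agent.LieClassical.OrthTrans
  Cfsg.Agent.H237.OSeven Cfsg.Agent.H237.OSevenB

/-- the field has three elements -/
structure Three (F : Type*) [Field F] : Prop where
  cases : ∀ c : F, c = 0 ∨ c = 1 ∨ c = -1
  three : (3 : F) = 0

variable {F V : Type*} [Field F] [AddCommGroup V] [Module F V] {Q : QuadraticForm F V}

theorem Three.two (h : Three F) : (2 : F) ≠ 0 := fun h2 => one_ne_zero (α := F) (by linear_combination h.three - h2)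

theorem Three.smul (h : Three F) (x : V) : x + x + x = 0 := by
  have h1 : (3 : F) • x = 0 := by rw [h.three, zero_smul]
  rw [← h1]
  module

theorem Three.eq_zero (h : Three F) {x : V} (hx : x = -x) : x = 0 := by
  have h1 := h.smul x
  rw [show x + x = 0 from eq_neg_iff_add_eq_zero.1 hx, zero_add] at h1
  exact h1

/-- the orthogonal complement of a vector -/
def perp (Q : QuadraticForm F V) (u : V) : Submodule F V := LinearMap.ker (polarBilin Q u)

theorem mem_perp {u x : V} : x ∈ perp Q u ↔ polar Q u x = 0 := Iff.rfl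

/-- there is an orthogonal projection onto `S` -/
def Pr (Q : QuadraticForm F V) (S : Submodule F V) : Prop := ∀ y, ∃ s ∈ S, ∀ x ∈ S, polar Q x y = polar Q x s

theorem pr_top : Pr Q ⊤ := fun y => ⟨y, trivial, fun _ _ => rfl⟩

theorem Pr.eig (h3 : Three F) {U : Submodule F V} (h : Pr Q U) {t : V ≃ₗ[F] V} (ht : t ∈ O Q)
    (hU : ∀ x ∈ U, t x ∈ U) (htt : ∀ x ∈ U, t (t x) = x) {c : F} (hc : c * c = 1) : Pr Q (U ⊓ eig t c) := by
  intro y
  obtain ⟨s, hs, h1⟩ := h y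
  refine ⟨-(s + c • t s), ⟨neg_mem (add_mem hs (U.smul_mem _ (hU s hs))), ?_⟩, fun x hx => ?_⟩
  · refine neg_mem (mem_eig.2 ?_)
    rw [map_add, map_smul, htt s hs, smul_add, smul_smul, hc, one_smul, add_comm]
  · have h2 : polar Q x (t s) = c * polar Q x s := by
      rw [← polar_map ht, htt s hs, mem_eig.1 hx.2, polar_smul_left, smul_eq_mul]
    rw [h1 x hx.1, polar_neg_right, polar_add_right, polar_smul_right, h2, smul_eq_mul, ← mul_assoc, hc]
    linear_combination (polar Q x s) * h3.three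

theorem polar_unit (h3 : Three F) {u : V} (hu : Q u = -1) : polar Q u u = 1 := by
  rw [polar_self', hu]
  linear_combination -h3.three

theorem sub_mem_perp (h3 : Three F) {u : V} (hu : Q u = -1) (x : V) : x - polar Q u x • u ∈ perp Q u := by
  rw [mem_perp, polar_sub_right, polar_smul_right, polar_unit h3 hu, smul_eq_mul, mul_one, sub_self]

theorem Pr.perp (h3 : Three F) {S : Submodule F V} (h : Pr Q S) {u : V} (hS : u ∈ S) (hu : Q u = -1) :
    Pr Q (S ⊓ perp Q u) := by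
  intro y
  obtain ⟨s, hs, h1⟩ := h y
  refine ⟨s - polar Q u s • u, ⟨sub_mem hs (S.smul_mem _ hS), sub_mem_perp h3 hu s⟩, fun x hx => ?_⟩
  rw [h1 x hx.1, polar_sub_right, polar_smul_right, polar_comm Q x u, mem_perp.1 hx.2, smul_zero, sub_zero]

theorem Pr.exists (hQ : Nondeg Q) {S : Submodule F V} (h : Pr Q S) (hS : S ≠ ⊥) : ∃ u ∈ S, Q u ≠ 0 := by
  obtain ⟨x, hx, h0⟩ := Submodule.exists_mem_ne_zero_of_ne_bot hS
  obtain ⟨y, hy⟩ := hQ.exists_polar_eq h0 1
  obtain ⟨s, hs, h1⟩ := h y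
  rcases exists_nonsing ((h1 x hx).symm.trans hy) with h2 | h2 | h2
  · exact ⟨x, hx, h2⟩
  · exact ⟨s, hs, h2⟩
  · exact ⟨x + s, add_mem hx hs, h2⟩

/-- `J² = -1` on `S` -/
structure JS (Q : QuadraticForm F V) (J : V ≃ₗ[F] V) (S : Submodule F V) : Prop where
  iso : J ∈ O Q
  pr : Pr Q S
  inv : ∀ x ∈ S, J x ∈ S
  sq : ∀ x ∈ S, J (J x) = -x

/-- the complement of the plane of `u` -/
def Pl (Q : QuadraticForm F V) (J : V ≃ₗ[F] V) (S : Submodule F V) (u : V) : Submodule F V :=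
  S ⊓ perp Q u ⊓ perp Q (J u)

section

variable {J : V ≃ₗ[F] V} {S : Submodule F V} {u : V}

theorem mem_Pl {x : V} : x ∈ Pl Q J S u ↔ x ∈ S ∧ polar Q u x = 0 ∧ polar Q (J u) x = 0 := and_assoc

theorem JS.skew (h : JS Q J S) {x : V} (hx : x ∈ S) (y : V) : polar Q x (J y) = -polar Q (J x) y := by
  rw [← polar_map h.iso (J x) y, h.sq x hx, polar_neg_left, neg_neg]

theorem JS.orth (h3 : Three F) (h : JS Q J S) (hu : u ∈ S) : polar Q u (J u) = 0 := by
  have h1 := h.skew hu u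
  rw [polar_comm Q (J u) u] at h1
  linear_combination -h1 + polar Q u (J u) * h3.three

theorem JS.exists (h3 : Three F) (hQ : Nondeg Q) (h : JS Q J S) (hS : S ≠ ⊥) : ∃ u ∈ S, Q u = -1 := by
  obtain ⟨u, hu, h1⟩ := h.pr.exists hQ hS
  rcases h3.cases (Q u) with h2 | h2 | h2
  · exact absurd h2 h1
  · refine ⟨u + J u, add_mem hu (h.inv u hu), ?_⟩
    rw [Q_add, h.orth h3 hu, mem_O.1 h.iso, h2]
    linear_combination h3.three
  · exact ⟨u, hu, h2⟩

theorem JS.next (h3 : Three F) (h : JS Q J S) (hu : u ∈ S) (hq : Q u = -1) : JS Q J (Pl Q J S u) where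
  iso := h.iso
  pr := (h.pr.perp h3 hu hq).perp h3 ⟨h.inv u hu, h.orth h3 hu⟩ ((mem_O.1 h.iso u).trans hq)
  inv x hx := by
    obtain ⟨h1, h2, h4⟩ := mem_Pl.1 hx
    exact mem_Pl.2 ⟨h.inv x h1, by rw [h.skew hu, h4, neg_zero], by rw [polar_map h.iso, h2]⟩
  sq x hx := h.sq x (mem_Pl.1 hx).1

theorem JS.decomp (h3 : Three F) (h : JS Q J S) (hu : u ∈ S) (hq : Q u = -1) {x : V} (hx : x ∈ S) :
    x - polar Q u x • u - polar Q (J u) x • J u ∈ Pl Q J S u := by
  have h1 := h.orth h3 hu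
  refine mem_Pl.2 ⟨sub_mem (sub_mem hx (S.smul_mem _ hu)) (S.smul_mem _ (h.inv u hu)), ?_, ?_⟩
  · rw [polar_sub_right, mem_perp.1 (sub_mem_perp h3 hq x), polar_smul_right, h1, smul_zero, sub_zero]
  · rw [polar_sub_right, polar_sub_right, polar_smul_right, polar_smul_right, polar_comm Q (J u) u, h1,
      polar_unit h3 ((mem_O.1 h.iso u).trans hq), smul_zero, sub_zero, smul_eq_mul, mul_one, sub_self]

theorem JS.rank [FiniteDimensional F V] (h3 : Three F) (h : JS Q J S) (hu : u ∈ S) (hq : Q u = -1) :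
    finrank F (Pl Q J S u) + 2 ≤ finrank F S := by
  have key : ∀ (T : Submodule F V) (v : V), v ∈ T → Q v = -1 → finrank F (T ⊓ perp Q v : Submodule F V) < finrank F T :=
    fun T v hv h1 => Submodule.finrank_lt_finrank_of_lt (lt_of_le_of_ne inf_le_left fun h2 => by
      rw [← h2] at hv
      exact one_ne_zero ((polar_unit h3 h1).symm.trans (mem_perp.1 hv.2)))
  have h1 := key S u hu hq
  have h2 := key (S ⊓ perp Q u) (J u) ⟨h.inv u hu, h.orth h3 hu⟩ ((mem_O.1 h.iso u).trans hq)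
  unfold Pl
  omega

end

theorem pow_mem_sub {g : V ≃ₗ[F] V} {U : Submodule F V} (hU : ∀ x ∈ U, g x ∈ U) (n : ℕ) : ∀ x ∈ U, (g ^ n) x ∈ U := by
  induction n with
  | zero => exact fun x hx => hx
  | succ n ih => exact fun x hx => by rw [pow_succ]; exact ih _ (hU x hx)

theorem pow_comm_apply (g : V ≃ₗ[F] V) (m n : ℕ) (x : V) : (g ^ m) ((g ^ n) x) = (g ^ n) ((g ^ m) x) := by
  show (g ^ m * g ^ n) x = (g ^ n * g ^ m) x
  rw [pow_mul_comm]

theorem comm_apply (g : V ≃ₗ[F] V) (n : ℕ) (x : V) : (g ^ n) (g x) = g ((g ^ n) x) := by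
  simpa using pow_comm_apply g n 1 x

theorem sq_apply (g : V ≃ₗ[F] V) (n : ℕ) (x : V) : (g ^ (2 * n)) x = (g ^ n) ((g ^ n) x) := by
  rw [two_mul, pow_add]
  rfl

theorem pow_fix {g : V ≃ₗ[F] V} {x : V} (h : g x = x) (n : ℕ) : (g ^ n) x = x := by
  induction n with
  | zero => rfl
  | succ n ih => rw [pow_succ]; show (g ^ n) (g x) = x; rw [h, ih]

/-- the `-1`-eigenspace of `g ^ (2 n)` in `U` -/
theorem js_eig (h3 : Three F) {g : V ≃ₗ[F] V} (hg : g ∈ O Q) {U : Submodule F V} (hP : Pr Q U)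
    (hU : ∀ x ∈ U, g x ∈ U) {n : ℕ} (h4 : ∀ x ∈ U, (g ^ (2 * n)) ((g ^ (2 * n)) x) = x) :
    JS Q (g ^ n) (U ⊓ eig (g ^ (2 * n)) (-1)) where
  iso := pow_mem hg n
  pr := hP.eig h3 (pow_mem hg _) (pow_mem_sub hU _) h4 (by simp)
  inv x hx := ⟨pow_mem_sub hU n x hx.1, mem_eig.2 (by rw [pow_comm_apply, mem_eig.1 hx.2, map_smul])⟩
  sq x hx := by rw [← sq_apply, mem_eig.1 hx.2, neg_one_smul]

theorem eig_ne (h3 : Three F) {t : V ≃ₗ[F] V} {U : Submodule F V} (hU : ∀ x ∈ U, t x ∈ U) (h4 : ∀ x ∈ U, t (t x) = x)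
    {x : V} (hx : x ∈ U) : x - t x ∈ U ⊓ eig t (-1) :=
  ⟨sub_mem hx (hU x hx), mem_eig.2 (by have := h3.two; rw [map_sub, h4 x hx, neg_one_smul, neg_sub])⟩

/-- **one plane** -/
theorem one_plane (h3 : Three F) {g : V ≃ₗ[F] V} (hg : g ∈ O Q) {U : Submodule F V} (hP : Pr Q U)
    (hU : ∀ x ∈ U, g x ∈ U) {n : ℕ} (h4 : ∀ x ∈ U, (g ^ (2 * n)) ((g ^ (2 * n)) x) = x) {u : V}
    (hu : u ∈ U ⊓ eig (g ^ (2 * n)) (-1)) (hq : Q u = -1) (hq' : Q u ≠ 0)
    (hb : Pl Q (g ^ n) (U ⊓ eig (g ^ (2 * n)) (-1)) u = ⊥) :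
    g (g u) = -u ∧ ∀ x ∈ U, zz Q u hq' (g x) = (g ^ (2 * n)) (g (zz Q u hq' x)) := by
  have hJ := js_eig h3 hg hP hU h4
  have hd : ∀ x ∈ U ⊓ eig (g ^ (2 * n)) (-1), x = polar Q u x • u + polar Q ((g ^ n) u) x • (g ^ n) u := fun x hx => by
    have h1 := hJ.decomp h3 hu hq hx
    rw [hb, Submodule.mem_bot, sub_sub, sub_eq_zero] at h1
    exact h1
  have htu : (g ^ (2 * n)) u = -u := by rw [mem_eig.1 hu.2, neg_one_smul]
  have hu0 : u ≠ -u := fun h => hq' (by rw [h3.eq_zero h, QuadraticMap.map_zero])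
  have hgu : g u ∈ U ⊓ eig (g ^ (2 * n)) (-1) :=
    ⟨hU u hu.1, mem_eig.2 (by rw [comm_apply, htu, map_neg, neg_one_smul])⟩
  obtain ⟨a, b, hab⟩ : ∃ a b : F, g u = a • u + b • (g ^ n) u := ⟨_, _, hd _ hgu⟩
  have h1 : a * a + b * b = 1 := by
    have h2 := mem_O.1 hg u
    rw [hab, Q_add, QuadraticMap.map_smul, QuadraticMap.map_smul, polar_smul_left, polar_smul_right, hJ.orth h3 hu,
      mem_O.1 hJ.iso, hq] at h2
    simp only [smul_eq_mul] at h2
    linear_combination -h2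
  have hb1 : b * b = 1 := by
    rcases h3.cases b with rfl | rfl | rfl
    · rw [zero_smul, add_zero] at hab
      have h2 : (g ^ 2) u = u := by
        rw [pow_two]
        show g (g u) = u
        rw [hab, map_smul, hab, smul_smul, show a * a = 1 by linear_combination h1, one_smul]
      rw [pow_mul, pow_fix h2] at htu
      exact absurd htu hu0
    · exact mul_one 1
    · simp
  have ha : a = 0 := mul_self_eq_zero.1 (by linear_combination h1 - hb1)
  rw [ha, zero_smul, zero_add] at hab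
  refine ⟨?_, fun x hx => ?_⟩
  · conv_lhs => rw [hab, map_smul, ← comm_apply, hab, map_smul, smul_smul, hb1, one_smul, hJ.sq u hu]
  have h5 := hd _ (eig_ne h3 (pow_mem_sub hU _) h4 (hU x hx))
  have h6 : ∀ v ∈ U ⊓ eig (g ^ (2 * n)) (-1), ∀ y ∈ U, polar Q v (y - (g ^ (2 * n)) y) = -polar Q v y := by
    intro v hv y hy
    rw [polar_sub_right, ← polar_map (pow_mem hg (2 * n)) v ((g ^ (2 * n)) y), h4 y hy, mem_eig.1 hv.2, polar_smul_left,
      smul_eq_mul]
    linear_combination polar Q v y * h3.three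
  rw [h6 u hu _ (hU x hx), h6 _ (hJ.inv u hu) _ (hU x hx)] at h5
  have h7 : polar Q u x = b * polar Q ((g ^ n) u) (g x) := by
    rw [← polar_map hg u x, hab, polar_smul_left, smul_eq_mul]
  have h8 : (g ^ (2 * n)) (g u) = -(b • (g ^ n) u) := by rw [mem_eig.1 hgu.2, neg_one_smul, hab]
  have h9 : (g ^ (2 * n)) (g x) = g x + polar Q u (g x) • u + polar Q ((g ^ n) u) (g x) • (g ^ n) u := by
    linear_combination (norm := module) -h5
  rw [zz_apply, zz_apply, map_add, map_add, map_neg, map_neg, map_smul, map_smul, h8, h9, h7, hq, smul_neg, smul_smul,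
    inv_neg, inv_one, show -1 * (b * polar Q ((g ^ n) u) (g x)) * b = -polar Q ((g ^ n) u) (g x) by
      linear_combination (-polar Q ((g ^ n) u) (g x)) * hb1]
  module

/-- a `2`-element which is not trivial on `U` has a power which is an involution on `U` -/
theorem exists_inv_on {h : V ≃ₗ[F] V} {U : Submodule F V} (h1 : ¬ ∀ x ∈ U, h x = x) :
    ∀ e : ℕ, (∀ x ∈ U, (h ^ 2 ^ e) x = x) →
      ∃ b : ℕ, (¬ ∀ x ∈ U, (h ^ 2 ^ b) x = x) ∧ ∀ x ∈ U, (h ^ 2 ^ b) ((h ^ 2 ^ b) x) = x := by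
  intro e
  induction e with
  | zero => intro h2; exact absurd (by simpa using h2) h1
  | succ e ih =>
    intro h2
    by_cases h3 : ∀ x ∈ U, (h ^ 2 ^ e) x = x
    · exact ih h3
    · exact ⟨e, h3, fun x hx => by rw [← sq_apply, ← pow_succ', h2 x hx]⟩

/-- **the first plane**: either it is the only one and `-ρ_u` conjugates `g` to `g ^ (2 j + 1)` on `U`, or there is a
second one -/
theorem first_plane (h3 : Three F) (hQ : Nondeg Q) {g : V ≃ₗ[F] V} (hg : g ∈ O Q) {U : Submodule F V} (hP : Pr Q U)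
    (hU : ∀ x ∈ U, g x ∈ U) {j e : ℕ} (he : (g ^ (2 * j)) ^ 2 ^ e = 1) (h1 : ¬ ∀ x ∈ U, (g ^ (2 * j)) x = x) :
    (∃ u ∈ U, ∃ hq : Q u ≠ 0, Q u = -1 ∧ ∀ x ∈ U, zz Q u hq (g x) = (g ^ (2 * j)) (g (zz Q u hq x))) ∨
    ∃ n u, (∀ x ∈ U, (g ^ (2 * n)) ((g ^ (2 * n)) x) = x) ∧ u ∈ U ⊓ eig (g ^ (2 * n)) (-1) ∧ Q u = -1 ∧
      Pl Q (g ^ n) (U ⊓ eig (g ^ (2 * n)) (-1)) u ≠ ⊥ := by
  obtain ⟨b, h2, h4⟩ := exists_inv_on h1 e (fun x _ => by rw [he]; rfl)
  rw [← pow_mul, mul_assoc] at h2 h4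
  have hJ := js_eig h3 hg hP hU h4
  obtain ⟨u, hu, hq⟩ := hJ.exists h3 hQ fun h5 => h2 fun x hx => by
    have h6 := eig_ne h3 (pow_mem_sub hU _) h4 hx
    rw [h5, Submodule.mem_bot, sub_eq_zero] at h6
    exact h6.symm
  by_cases hb : Pl Q (g ^ (j * 2 ^ b)) (U ⊓ eig (g ^ (2 * (j * 2 ^ b))) (-1)) u = ⊥
  swap
  · exact Or.inr ⟨_, u, h4, hu, hq, hb⟩
  have hq' : Q u ≠ 0 := by rw [hq]; simp
  obtain ⟨h5, h6⟩ := one_plane h3 hg hP hU h4 hu hq hq' hb
  refine Or.inl ⟨u, hu.1, hq', hq, ?_⟩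
  cases b with
  | zero => simpa using h6
  | succ b =>
    have h7 : (g ^ 4) u = u := by
      show g (g (g (g u))) = u
      rw [h5, map_neg, map_neg, h5, neg_neg]
    have h8 := mem_eig.1 hu.2
    rw [show 2 * (j * 2 ^ (b + 1)) = 4 * (j * 2 ^ b) by ring, pow_mul, pow_fix h7, neg_one_smul] at h8
    exact absurd (by rw [h3.eq_zero h8, QuadraticMap.map_zero]) hq'

end Cfsg.Agent.ODD.Exc

private theorem dce_77454f9d7b8d : _root_.True := by
  try have : _root_.True := by simp only [_root_.Cfsg.Agent.H237.OSeven.zz.congr_simp]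
  exact _root_.True.intro
end

-- part: ODD/Exc/O7B
section
prune_inst 0x4011044015162120000040010320040a11100019000000000600405020108ca28854220000c100500188080100805002002180000400000000a00000000050401000002003174a108c40008000084010000000000000000000000000000000000204010000
set_option linter.all false
open scoped Cfsg.Agent.FastGrp

/-!
# ODD-EXC: two planes, the check in `GU₂(3) ≤ O₄⁺(3)` (helper87)
-/

set_option autoImplicit false
set_option maxRecDepth 100000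

namespace Cfsg.Agent.ODD.Exc

open QuadraticMap Module Cfsg.Agent.LieClassical.OrthCore Cfsg.Agent.LieClassical.OrthTrans

/-- coordinates -/
structure V4 where
  /-- first -/
  a : ℕ
  /-- second -/
  b : ℕ
  /-- third -/
  c : ℕ
  /-- fourth -/
  d : ℕ

/-- columns -/
structure M4 where
  /-- first -/
  a : V4
  /-- second -/
  b : V4
  /-- third -/
  c : V4
  /-- fourth -/
  d : V4

/-- matrix times vector -/
def M4.ap (M : M4) (x : V4) : V4 :=
  ⟨(x.a * M.a.a + x.b * M.b.a + x.c * M.c.a + x.d * M.d.a) % 3, (x.a * M.a.b + x.b * M.b.b + x.c * M.c.b + x.d * M.d.b) % 3,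
    (x.a * M.a.c + x.b * M.b.c + x.c * M.c.c + x.d * M.d.c) % 3, (x.a * M.a.d + x.b * M.b.d + x.c * M.c.d + x.d * M.d.d) % 3⟩

/-- product -/
def M4.mul (M N : M4) : M4 := ⟨M.ap N.a, M.ap N.b, M.ap N.c, M.ap N.d⟩

/-- equality modulo three -/
def V4.beq (x y : V4) : Bool :=
  Nat.beq (x.a % 3) (y.a % 3) && (Nat.beq (x.b % 3) (y.b % 3) && (Nat.beq (x.c % 3) (y.c % 3) && Nat.beq (x.d % 3) (y.d % 3)))

/-- equality modulo three -/
def M4.beq (M N : M4) : Bool := M.a.beq N.a && (M.b.beq N.b && (M.c.beq N.c && M.d.beq N.d))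

/-- scalar matrices -/
def M4.sc (s : ℕ) : M4 := ⟨⟨s, 0, 0, 0⟩, ⟨0, s, 0, 0⟩, ⟨0, 0, s, 0⟩, ⟨0, 0, 0, s⟩⟩

/-- the scalar product -/
def V4.dot (x y : V4) : ℕ := x.a * y.a + x.b * y.b + x.c * y.c + x.d * y.d

/-- the action of `J` -/
def V4.J (x : V4) : V4 := ⟨2 * x.b, x.a, 2 * x.d, x.c⟩

/-- reflection of a vector -/
def V4.rv (v x : V4) : V4 :=
  ⟨x.a + v.dot v * v.dot x * v.a, x.b + v.dot v * v.dot x * v.b, x.c + v.dot v * v.dot x * v.c, x.d + v.dot v * v.dot x * v.d⟩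

/-- reflection -/
def V4.rf (v : V4) : M4 := ⟨v.rv ⟨1, 0, 0, 0⟩, v.rv ⟨0, 1, 0, 0⟩, v.rv ⟨0, 0, 1, 0⟩, v.rv ⟨0, 0, 0, 1⟩⟩

/-- `1` or the product of two reflections -/
def op (v w : V4) : List M4 := [M4.sc 1, v.rf.mul w.rf]

/-- representatives of `2^{1+4}` modulo its centre -/
def qO : List M4 :=
  (op ⟨1, 0, 0, 0⟩ ⟨0, 1, 0, 0⟩).flatMap fun a => (op ⟨1, 0, 0, 0⟩ ⟨0, 0, 1, 0⟩).flatMap fun b =>
    (op ⟨1, 2, 0, 0⟩ ⟨0, 0, 1, 2⟩).flatMap fun c => (op ⟨1, 0, 2, 0⟩ ⟨0, 1, 0, 2⟩).map fun d => (a.mul b).mul (c.mul d)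

/-- all vectors -/
def allV (p : V4 → Bool) : Bool :=
  [0, 1, 2].all fun a => [0, 1, 2].all fun b => [0, 1, 2].all fun c => [0, 1, 2].all fun d => p ⟨a, b, c, d⟩

theorem chkO : allV (fun x => !(Nat.beq (x.dot x % 3) 1) || allV fun y =>
    !(Nat.beq (y.dot y % 3) 1 && (Nat.beq (x.dot y % 3) 0 && Nat.beq (x.J.dot y % 3) 0)) ||
      tst M4.mul M4.beq (M4.sc 1) (M4.sc 2) qO ⟨x, x.J, y, y.J⟩) = true := by decide +kernel

theorem allV_spec {p : V4 → Bool} (h : allV p = true) {x : V4} (ha : x.a < 3) (hb : x.b < 3) (hc : x.c < 3)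
    (hd : x.d < 3) : p x = true := by
  have key : ∀ n : ℕ, n < 3 → n ∈ [0, 1, 2] := by decide
  simp only [allV, List.all_eq_true] at h
  exact h _ (key _ ha) _ (key _ hb) _ (key _ hc) _ (key _ hd)

variable {F V : Type*} [Field F] [AddCommGroup V] [Module F V] {Q : QuadraticForm F V}

theorem Three.cast_eq (h3 : Three F) (m n : ℕ) : Nat.beq (m % 3) (n % 3) = true ↔ (m : F) = n := by
  have : CharP F 3 := (CharP.charP_iff_prime_eq_zero (by norm_num)).2 (by exact_mod_cast h3.three)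
  rw [Nat.beq_eq, CharP.natCast_eq_natCast F 3]
  rfl

theorem Three.cast_mod (h3 : Three F) (n : ℕ) : ((n % 3 : ℕ) : F) = n :=
  (h3.cast_eq _ _).1 (by rw [Nat.mod_mod, Nat.beq_eq])

theorem Three.exists_cast (h3 : Three F) (c : F) : ∃ n : ℕ, n < 3 ∧ (n : F) = c := by
  rcases h3.cases c with rfl | rfl | rfl
  · exact ⟨0, by norm_num, Nat.cast_zero⟩
  · exact ⟨1, by norm_num, Nat.cast_one⟩
  · exact ⟨2, by norm_num, by push_cast; linear_combination h3.three⟩

/-- an orthonormal frame -/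
structure Fr (Q : QuadraticForm F V) (e₁ e₂ e₃ e₄ : V) : Prop where
  three : Three F
  q1 : Q e₁ = -1
  q2 : Q e₂ = -1
  q3 : Q e₃ = -1
  q4 : Q e₄ = -1
  p12 : polar Q e₁ e₂ = 0
  p13 : polar Q e₁ e₃ = 0
  p14 : polar Q e₁ e₄ = 0
  p23 : polar Q e₂ e₃ = 0
  p24 : polar Q e₂ e₄ = 0
  p34 : polar Q e₃ e₄ = 0

/-- the vector with given coordinates -/
def vec (F : Type*) {V : Type*} [Field F] [AddCommGroup V] [Module F V] (e₁ e₂ e₃ e₄ : V) (x : V4) : V :=
  (x.a : F) • e₁ + (x.b : F) • e₂ + (x.c : F) • e₃ + (x.d : F) • e₄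

/-- `M` is the matrix of `k` -/
def Rep (e₁ e₂ e₃ e₄ : V) (k : V ≃ₗ[F] V) (M : M4) : Prop :=
  ∀ x, k (vec F e₁ e₂ e₃ e₄ x) = vec F e₁ e₂ e₃ e₄ (M.ap x)

section

variable {e₁ e₂ e₃ e₄ : V} (h : Fr Q e₁ e₂ e₃ e₄)

include h

theorem Fr.vec_ap (M : M4) (x : V4) : vec F e₁ e₂ e₃ e₄ (M.ap x) = (x.a : F) • vec F e₁ e₂ e₃ e₄ M.a +
    (x.b : F) • vec F e₁ e₂ e₃ e₄ M.b + (x.c : F) • vec F e₁ e₂ e₃ e₄ M.c + (x.d : F) • vec F e₁ e₂ e₃ e₄ M.d := by
  simp only [vec, M4.ap, h.three.cast_mod]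
  push_cast
  module

theorem Fr.rep {k : V ≃ₗ[F] V} {M : M4} (h1 : k e₁ = vec F e₁ e₂ e₃ e₄ M.a) (h2 : k e₂ = vec F e₁ e₂ e₃ e₄ M.b)
    (h3 : k e₃ = vec F e₁ e₂ e₃ e₄ M.c) (h4 : k e₄ = vec F e₁ e₂ e₃ e₄ M.d) : Rep e₁ e₂ e₃ e₄ k M := fun x => by
  rw [h.vec_ap, ← h1, ← h2, ← h3, ← h4, vec, map_add, map_add, map_add, map_smul, map_smul, map_smul, map_smul]

theorem Fr.polar_vec (x y : V4) : polar Q (vec F e₁ e₂ e₃ e₄ x) (vec F e₁ e₂ e₃ e₄ y) = (x.dot y : ℕ) := by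
  simp only [vec, V4.dot, polar_add_left, polar_add_right, polar_smul_left, polar_smul_right, polar_unit h.three h.q1,
    polar_unit h.three h.q2, polar_unit h.three h.q3, polar_unit h.three h.q4, h.p12, h.p13, h.p14, h.p23, h.p24, h.p34,
    polar_zero_of_comm h.p12, polar_zero_of_comm h.p13, polar_zero_of_comm h.p14, polar_zero_of_comm h.p23,
    polar_zero_of_comm h.p24, polar_zero_of_comm h.p34, smul_eq_mul]
  push_cast
  ring

theorem Fr.Q_vec (x : V4) : Q (vec F e₁ e₂ e₃ e₄ x) = -(x.dot x : ℕ) := by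
  have h1 := h.polar_vec x x
  rw [polar_self'] at h1
  linear_combination -h1 + Q (vec F e₁ e₂ e₃ e₄ x) * h.three.three

theorem Fr.beq (x y : V4) : x.beq y = true ↔ vec F e₁ e₂ e₃ e₄ x = vec F e₁ e₂ e₃ e₄ y := by
  simp only [V4.beq, Bool.and_eq_true, h.three.cast_eq]
  refine ⟨fun ⟨h1, h2, h3, h4⟩ => by rw [vec, vec, h1, h2, h3, h4], fun h1 => ?_⟩
  have key : ∀ w : V4, ((w.dot x : ℕ) : F) = (w.dot y : ℕ) := fun w => by rw [← h.polar_vec, ← h.polar_vec, h1]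
  exact ⟨by simpa [V4.dot] using key ⟨1, 0, 0, 0⟩, by simpa [V4.dot] using key ⟨0, 1, 0, 0⟩,
    by simpa [V4.dot] using key ⟨0, 0, 1, 0⟩, by simpa [V4.dot] using key ⟨0, 0, 0, 1⟩⟩

theorem Fr.cols {k : V ≃ₗ[F] V} {M : M4} (R : Rep e₁ e₂ e₃ e₄ k M) :
    k e₁ = vec F e₁ e₂ e₃ e₄ M.a ∧ k e₂ = vec F e₁ e₂ e₃ e₄ M.b ∧ k e₃ = vec F e₁ e₂ e₃ e₄ M.c ∧
      k e₄ = vec F e₁ e₂ e₃ e₄ M.d := by
  have key := fun x => (R x).trans (h.vec_ap M x)
  exact ⟨by simpa [vec] using key ⟨1, 0, 0, 0⟩, by simpa [vec] using key ⟨0, 1, 0, 0⟩,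
    by simpa [vec] using key ⟨0, 0, 1, 0⟩, by simpa [vec] using key ⟨0, 0, 0, 1⟩⟩

theorem Fr.mul {k k' : V ≃ₗ[F] V} {M N : M4} (R : Rep e₁ e₂ e₃ e₄ k M) (R' : Rep e₁ e₂ e₃ e₄ k' N) :
    Rep e₁ e₂ e₃ e₄ (k * k') (M.mul N) := by
  obtain ⟨h1, h2, h3, h4⟩ := h.cols R'
  exact h.rep ((congrArg k h1).trans (R _)) ((congrArg k h2).trans (R _)) ((congrArg k h3).trans (R _))
    ((congrArg k h4).trans (R _))

theorem Fr.mbeq {k k' : V ≃ₗ[F] V} {M N : M4} (R : Rep e₁ e₂ e₃ e₄ k M) (R' : Rep e₁ e₂ e₃ e₄ k' N) :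
    M.beq N = true ↔ ∀ x, k (vec F e₁ e₂ e₃ e₄ x) = k' (vec F e₁ e₂ e₃ e₄ x) := by
  simp only [M4.beq, Bool.and_eq_true, h.beq]
  refine ⟨fun ⟨h1, h2, h3, h4⟩ x => by rw [R, R', h.vec_ap, h.vec_ap, h1, h2, h3, h4], fun h0 => ?_⟩
  obtain ⟨h1, h2, h3, h4⟩ := h.cols R'
  obtain ⟨h5, h6, h7, h8⟩ := h.cols (k := k') (M := M) fun x => (h0 x).symm.trans (R x)
  exact ⟨h5.symm.trans h1, h6.symm.trans h2, h7.symm.trans h3, h8.symm.trans h4⟩

theorem Fr.sc {k : V ≃ₗ[F] V} {s : ℕ} (h1 : k e₁ = (s : F) • e₁) (h2 : k e₂ = (s : F) • e₂) (h3 : k e₃ = (s : F) • e₃)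
    (h4 : k e₄ = (s : F) • e₄) : Rep e₁ e₂ e₃ e₄ k (M4.sc s) :=
  h.rep (by simpa [vec, M4.sc] using h1) (by simpa [vec, M4.sc] using h2) (by simpa [vec, M4.sc] using h3)
    (by simpa [vec, M4.sc] using h4)

theorem Fr.one : Rep e₁ e₂ e₃ e₄ (1 : V ≃ₗ[F] V) (M4.sc 1) := h.sc (by simp) (by simp) (by simp) (by simp)

theorem Fr.refl_vec {v : V4} (hv : Q (vec F e₁ e₂ e₃ e₄ v) ≠ 0) (x : V4) :
    refl Q _ hv (vec F e₁ e₂ e₃ e₄ x) = vec F e₁ e₂ e₃ e₄ (v.rv x) := by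
  have h1 : (Q (vec F e₁ e₂ e₃ e₄ v))⁻¹ = Q (vec F e₁ e₂ e₃ e₄ v) := by
    rcases h.three.cases (Q (vec F e₁ e₂ e₃ e₄ v)) with h2 | h2 | h2 <;> simp [h2]
  rw [refl_apply, h1, h.Q_vec, h.polar_vec]
  simp only [vec, V4.rv]
  push_cast
  module

theorem Fr.refl {v : V4} (hv : Q (vec F e₁ e₂ e₃ e₄ v) ≠ 0) : Rep e₁ e₂ e₃ e₄ (refl Q _ hv) v.rf :=
  h.rep (by simpa [vec, V4.rf] using h.refl_vec hv ⟨1, 0, 0, 0⟩) (by simpa [vec, V4.rf] using h.refl_vec hv ⟨0, 1, 0, 0⟩)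
    (by simpa [vec, V4.rf] using h.refl_vec hv ⟨0, 0, 1, 0⟩) (by simpa [vec, V4.rf] using h.refl_vec hv ⟨0, 0, 0, 1⟩)

end

/-- the matrix of an element of `Ω` which is trivial on the orthogonal complement of the frame -/
def Gd (Q : QuadraticForm F V) (e₁ e₂ e₃ e₄ : V) (M : M4) : Prop :=
  ∃ k ∈ E Q, Rep e₁ e₂ e₃ e₄ k M ∧ ∀ y, (∀ x, polar Q (vec F e₁ e₂ e₃ e₄ x) y = 0) → k y = y

section

variable {e₁ e₂ e₃ e₄ : V} (h : Fr Q e₁ e₂ e₃ e₄)

include h

theorem Fr.gd_mul {M N : M4} (h1 : Gd Q e₁ e₂ e₃ e₄ M) (h2 : Gd Q e₁ e₂ e₃ e₄ N) : Gd Q e₁ e₂ e₃ e₄ (M.mul N) := by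
  obtain ⟨k, hk, R, h3⟩ := h1
  obtain ⟨k', hk', R', h4⟩ := h2
  exact ⟨k * k', mul_mem hk hk', h.mul R R', fun y hy => (congrArg k (h4 y hy)).trans (h3 y hy)⟩

theorem Fr.gd_op (hG : Good Q) {v w : V4} {s : ℕ} (hv : v.dot v % 3 = s) (hw : w.dot w % 3 = s) (hs : s ≠ 0) :
    ∀ M ∈ op v w, Gd Q e₁ e₂ e₃ e₄ M := by
  have key : ∀ u : V4, u.dot u % 3 = s → Q (vec F e₁ e₂ e₃ e₄ u) ≠ 0 := fun u hu h0 => by
    rw [h.Q_vec, neg_eq_zero, ← Nat.cast_zero, ← h.three.cast_eq, hu, Nat.beq_eq] at h0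
    exact hs h0
  have fix : ∀ (u : V4) (hu : Q (vec F e₁ e₂ e₃ e₄ u) ≠ 0) (y : V), (∀ x, polar Q (vec F e₁ e₂ e₃ e₄ x) y = 0) →
      LieClassical.OrthCore.refl Q _ hu y = y := fun u hu y hy => by rw [refl_apply, hy, mul_zero, zero_smul, sub_zero]
  intro M hM
  simp only [op, List.mem_cons, List.not_mem_nil, or_false] at hM
  rcases hM with rfl | rfl
  · exact ⟨1, one_mem _, h.one, fun _ _ => rfl⟩
  · refine ⟨_, hG.refl_mul_refl_mem (key w hw) (key v hv) ?_, h.mul (h.refl _) (h.refl _), fun y hy =>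
      (congrArg _ (fix w (key w hw) y hy)).trans (fix v (key v hv) y hy)⟩
    rw [h.Q_vec, h.Q_vec, ← h.three.cast_mod, hw, ← hv, h.three.cast_mod]

theorem Fr.gd_qO (hG : Good Q) : ∀ M ∈ qO, Gd Q e₁ e₂ e₃ e₄ M := by
  intro M hM
  simp only [qO, List.mem_flatMap, List.mem_map] at hM
  obtain ⟨a, ha, b, hb, c, hc, d, hd, rfl⟩ := hM
  exact h.gd_mul (h.gd_mul (h.gd_op hG (s := 1) rfl rfl one_ne_zero a ha) (h.gd_op hG (s := 1) rfl rfl one_ne_zero b hb))
    (h.gd_mul (h.gd_op hG (s := 2) rfl rfl two_ne_zero c hc) (h.gd_op hG (s := 2) rfl rfl two_ne_zero d hd))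

theorem Fr.pl {k : V ≃ₗ[F] V} {A : M4} (R : Rep e₁ e₂ e₃ e₄ k A) (d : M4) : ∀ (n : ℕ) {k' : V ≃ₗ[F] V} {X : M4},
    Rep e₁ e₂ e₃ e₄ k' X → ∀ i, i < n →
      (pl M4.mul A n X).getD i d ∈ pl M4.mul A n X ∧ Rep e₁ e₂ e₃ e₄ (k' * k ^ i) ((pl M4.mul A n X).getD i d) := by
  intro n
  induction n with
  | zero => intro k' X _ i hi; omega
  | succ n ih =>
    intro k' X R' i hi
    cases i with
    | zero => exact ⟨List.mem_cons_self, by simpa [Exc.pl] using R'⟩
    | succ i =>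
      obtain ⟨h1, h2⟩ := ih (h.mul R' R) i (by omega)
      rw [Exc.pl, List.getD_cons_succ]
      exact ⟨List.mem_cons_of_mem _ h1, by rwa [pow_succ', ← mul_assoc]⟩

theorem Fr.conj (hG : Good Q) {g : V ≃ₗ[F] V} {A : M4} (R : Rep e₁ e₂ e₃ e₄ g A)
    (hA : tst M4.mul M4.beq (M4.sc 1) (M4.sc 2) qO A = true) {n j e : ℕ} (hn : Rep e₁ e₂ e₃ e₄ (g ^ (2 * n)) (M4.sc 2))
    (hj : (g ^ (2 * j)) ^ 2 ^ e = 1) : ∃ c ∈ E Q,
      (∀ x, c (g (vec F e₁ e₂ e₃ e₄ x)) = (g ^ (2 * j)) (g (c (vec F e₁ e₂ e₃ e₄ x)))) ∧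
      ∀ y, (∀ x, polar Q (vec F e₁ e₂ e₃ e₄ x) y = 0) → c y = y := by
  simp only [tst, Bool.and_eq_true, Bool.or_eq_true, Bool.not_eq_true', List.all_eq_true, List.any_eq_true] at hA
  obtain ⟨h1, h2⟩ := hA
  have hp := h.pl (h.mul R R) (M4.sc 2) 13 h.one
  simp only [one_mul, ← pow_two] at hp
  rw [h.mbeq (hp 12 (by norm_num)).2 h.one] at h1
  have key : ∀ i : ℕ, ∃ w ∈ Exc.pl M4.mul (A.mul A) 13 (M4.sc 1), Rep e₁ e₂ e₃ e₄ (g ^ (2 * i)) w := fun i => by
    obtain ⟨h3, h4⟩ := hp (i % 12) (by omega)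
    refine ⟨_, h3, fun x => ?_⟩
    rw [← h4 x, pow_mul]
    conv_lhs => rw [← Nat.mod_add_div i 12, pow_add, pow_mul]
    exact congrArg _ (pow_fix (h1 x) _)
  rcases h2 with h2 | h2
  · obtain ⟨w, hw, h3⟩ := key n
    have h4 : ((Exc.pl M4.mul (A.mul A) 13 (M4.sc 1)).any fun w => w.beq (M4.sc 2)) = true :=
      List.any_eq_true.2 ⟨w, hw, (h.mbeq h3 hn).2 fun _ => rfl⟩
    rw [h2] at h4
    exact absurd h4 (by simp)
  obtain ⟨w, hw, h3⟩ := key j
  rcases h2 w hw with (h5 | h5) | ⟨C, hC, h5⟩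
  · have h6 : ((w.mul w).mul (w.mul w)).beq (M4.sc 1) = true := by
      rw [h.mbeq (h.mul (h.mul h3 h3) (h.mul h3 h3)) h.one]
      intro x
      have h7 : ∀ m, ((g ^ (2 * j)) ^ m) (vec F e₁ e₂ e₃ e₄ x) = vec F e₁ e₂ e₃ e₄ x ↔
          Function.IsPeriodicPt (g ^ (2 * j)) m (vec F e₁ e₂ e₃ e₄ x) := fun m => by
        rw [LinearEquiv.pow_apply]; rfl
      have h8 := (h7 12).1 (by rw [pow_mul, ← pow_mul _ j, mul_comm j, pow_mul]; exact pow_fix (h1 x) _)
      have h9 := (h7 (2 ^ e)).1 (by rw [hj]; rfl)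
      have h10 : Nat.gcd (2 ^ e) (4 * 3) ∣ 4 :=
        (Nat.Coprime.coprime_dvd_left (Nat.gcd_dvd_left _ _) (Nat.Coprime.pow_left e (by decide))).dvd_of_dvd_mul_right
          (Nat.gcd_dvd_right _ _)
      exact (h9.gcd h8).trans_dvd h10
    rw [h5] at h6
    exact absurd h6 (by simp)
  · rw [h.mbeq h3 h.one] at h5
    refine ⟨1, one_mem _, fun x => ?_, fun _ _ => rfl⟩
    show _ = (g ^ (2 * j)) (g (vec F e₁ e₂ e₃ e₄ x))
    rw [comm_apply, h5]
    rfl
  · obtain ⟨c, hc, Rc, h6⟩ := h.gd_qO hG C hC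
    exact ⟨c, hc, (h.mbeq (h.mul Rc R) (h.mul (h.mul h3 R) Rc)).1 h5, h6⟩

end

/-- **two planes** -/
theorem two_planes (h3 : Three F) (hG : Good Q) {g : V ≃ₗ[F] V} (hg : g ∈ O Q) {n j e : ℕ} {S : Submodule F V}
    (hJ : JS Q (g ^ n) S) (hS : ∀ x ∈ S, g x ∈ S) {u v : V} (hu : u ∈ S) (hqu : Q u = -1) (hv : v ∈ Pl Q (g ^ n) S u)
    (hqv : Q v = -1) (hb : Pl Q (g ^ n) (Pl Q (g ^ n) S u) v = ⊥) (hj : (g ^ (2 * j)) ^ 2 ^ e = 1) :
    ∃ c ∈ E Q, (∀ x ∈ S, c (g x) = (g ^ (2 * j)) (g (c x))) ∧ ∀ y, (∀ x ∈ S, polar Q x y = 0) → c y = y := by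
  have hJ' := hJ.next h3 hu hqu
  obtain ⟨hv1, hv2, hv3⟩ := mem_Pl.1 hv
  obtain ⟨-, hv4, hv5⟩ := mem_Pl.1 (hJ'.inv v hv)
  have h : Fr Q u ((g ^ n) u) v ((g ^ n) v) := ⟨h3, hqu, (mem_O.1 hJ.iso u).trans hqu, hqv,
    (mem_O.1 hJ.iso v).trans hqv, hJ.orth h3 hu, hv2, hv4, hv3, hv5, hJ.orth h3 hv1⟩
  have hin : ∀ x, vec F u ((g ^ n) u) v ((g ^ n) v) x ∈ S := fun x =>
    add_mem (add_mem (add_mem (S.smul_mem _ hu) (S.smul_mem _ (hJ.inv u hu))) (S.smul_mem _ hv1))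
      (S.smul_mem _ (hJ.inv v hv1))
  have hex : ∀ y ∈ S, ∃ x : V4, (x.a < 3 ∧ x.b < 3 ∧ x.c < 3 ∧ x.d < 3) ∧ vec F u ((g ^ n) u) v ((g ^ n) v) x = y := by
    intro y hy
    have h1 := hJ'.decomp h3 hv hqv (hJ.decomp h3 hu hqu hy)
    rw [hb, Submodule.mem_bot] at h1
    generalize polar Q v _ = c at h1
    generalize polar Q ((g ^ n) v) _ = d at h1
    obtain ⟨a, ha, h4⟩ := h3.exists_cast (polar Q u y)
    obtain ⟨b, hb, h5⟩ := h3.exists_cast (polar Q ((g ^ n) u) y)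
    obtain ⟨c, hc, rfl⟩ := h3.exists_cast c
    obtain ⟨d, hd, rfl⟩ := h3.exists_cast d
    refine ⟨⟨a, b, c, d⟩, ⟨ha, hb, hc, hd⟩, ?_⟩
    rw [vec, h4, h5]
    linear_combination (norm := module) -h1
  have hJv : ∀ x, (g ^ n) (vec F u ((g ^ n) u) v ((g ^ n) v) x) = vec F u ((g ^ n) u) v ((g ^ n) v) x.J := fun x => by
    have h2 : (2 : F) = -1 := by linear_combination h3.three
    simp only [vec, V4.J, map_add, map_smul, hJ.sq u hu, hJ.sq v hv1]
    push_cast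
    rw [h2]
    module
  obtain ⟨x, ⟨x1, x2, x3, x4⟩, hx⟩ := hex _ (hS u hu)
  obtain ⟨y, ⟨y1, y2, y3, y4⟩, hy⟩ := hex _ (hS v hv1)
  have hx' : g ((g ^ n) u) = vec F u ((g ^ n) u) v ((g ^ n) v) x.J := by rw [← comm_apply, ← hx, hJv]
  have R : Rep u ((g ^ n) u) v ((g ^ n) v) g ⟨x, x.J, y, y.J⟩ :=
    h.rep hx.symm hx' hy.symm (by rw [← comm_apply, ← hy, hJv])
  have h1 := allV_spec chkO x1 x2 x3 x4
  have h2 : Nat.beq (x.dot x % 3) 1 = true := (h3.cast_eq _ 1).2 (by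
    rw [← h.polar_vec, hx, polar_map hg, polar_unit h3 hqu, Nat.cast_one])
  rw [h2, Bool.not_true, Bool.false_or] at h1
  have h4 := allV_spec h1 y1 y2 y3 y4
  have h5 : Nat.beq (y.dot y % 3) 1 = true := (h3.cast_eq _ 1).2 (by
    rw [← h.polar_vec, hy, polar_map hg, polar_unit h3 hqv, Nat.cast_one])
  have h6 : Nat.beq (x.dot y % 3) 0 = true := (h3.cast_eq _ 0).2 (by
    rw [← h.polar_vec, hx, hy, polar_map hg, hv2, Nat.cast_zero])
  have h7 : Nat.beq (x.J.dot y % 3) 0 = true := (h3.cast_eq _ 0).2 (by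
    rw [← h.polar_vec, ← hx', hy, polar_map hg, hv3, Nat.cast_zero])
  rw [h5, h6, h7, Bool.and_self, Bool.and_self, Bool.not_true, Bool.false_or] at h4
  have h8 : ∀ w ∈ S, (g ^ (2 * n)) w = ((2 : ℕ) : F) • w := fun w hw => by
    rw [sq_apply, hJ.sq w hw, show ((2 : ℕ) : F) = -1 by push_cast; linear_combination h3.three, neg_one_smul]
  obtain ⟨c, hc, h9, h10⟩ := h.conj hG R h4 (h.sc (h8 u hu) (h8 _ (hJ.inv u hu)) (h8 v hv1) (h8 _ (hJ.inv v hv1))) hj
  refine ⟨c, hc, fun w hw => ?_, fun w hw => h10 w fun z => hw _ (hin z)⟩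
  obtain ⟨z, -, rfl⟩ := hex w hw
  exact h9 z

end Cfsg.Agent.ODD.Exc

private theorem dce_514b35dfa469 : _root_.True := by
  try have : _root_.True := by simp only [_root_.Cfsg.Agent.ODD.Exc.M4.ap.eq_1]
  try have : _root_.True := by simp only [_root_.Cfsg.Agent.ODD.Exc.V4.rv.eq_1]
  try have : _root_.True := by simp only [_root_.Cfsg.Agent.ODD.Exc.op.eq_1]
  try have : _root_.True := by simp only [_root_.Cfsg.Agent.ODD.Exc.allV.eq_1]
  try have : _root_.True := by simp only [_root_.Cfsg.Agent.ODD.Exc.V4.J.eq_1]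
  try have : _root_.True := by simp only [_root_.Cfsg.Agent.ODD.Exc.vec.eq_1]
  try have : _root_.True := by simp only [_root_.Cfsg.Agent.ODD.Exc.M4.sc.eq_1]
  try have : _root_.True := by simp only [_root_.Cfsg.Agent.ODD.Exc.V4.dot.eq_1]
  try have : _root_.True := by simp only [_root_.Cfsg.Agent.ODD.Exc.M4.beq.eq_1]
  try have : _root_.True := by simp only [_root_.Cfsg.Agent.ODD.Exc.V4.rf.eq_1]
  try have : _root_.True := by simp only [_root_.Cfsg.Agent.ODD.Exc.V4.beq.eq_1]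
  try have : _root_.True := by simp only [_root_.Cfsg.Agent.ODD.Exc.qO.eq_1]
  exact _root_.True.intro
end

-- part: ODD/Exc/O73
section
prune_inst 0x1070054162120000040002020050a19100000000088000a044020001084a48800008001c20010200a08000600d00281208000000000000000004000005040100805202b248a10cc4000e800000010000000000000000000000000000000000204010000
set_option linter.all false
open scoped Cfsg.Agent.FastGrp

/-!
# ODD-EXC: all characters of `Ω₇(3)` are `2`-rational (helper87)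
-/

set_option autoImplicit false

namespace Cfsg.Agent.ODD.Exc

open QuadraticMap Module Cfsg.Agent.LieClassical.OrthCore Cfsg.Agent.LieClassical.OrthTrans
  Cfsg.Agent.LieClassical.OrthForms Cfsg.Agent.H237.OSeven Cfsg.Agent.H237.OSevenB Cfsg.Agent.ODD.Alt

/-- an even permutation all of whose cycles have length four -/
theorem eight_dvd {α : Type*} [Fintype α] [DecidableEq α] {σ : Equiv.Perm α} (h4 : σ ^ 4 = 1) (h2 : ∀ x, σ (σ x) ≠ x)
    (hs : Equiv.Perm.sign σ = 1) : 8 ∣ Fintype.card α := by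
  have h1 : ∀ n ∈ σ.cycleType, n = 4 := by
    intro n hn
    have h5 := (Equiv.Perm.dvd_of_mem_cycleType hn).trans (orderOf_dvd_of_pow_eq_one h4)
    have h6 := Equiv.Perm.two_le_of_mem_cycleType hn
    have h7 := Nat.le_of_dvd (by norm_num) h5
    have h8 : n ≠ 2 := by
      rintro rfl
      rw [Equiv.Perm.cycleType_def, Multiset.mem_map] at hn
      obtain ⟨c, hc, h9⟩ := hn
      obtain ⟨h10, h11⟩ := Equiv.Perm.mem_cycleFactorsFinset_iff.1 hc
      obtain ⟨x, hx⟩ := h10.nonempty_support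
      have h12 : c ^ 2 = 1 := by rw [← show orderOf c = 2 from h10.orderOf.trans h9, pow_orderOf_eq_one]
      refine h2 x ?_
      rw [← h11 x hx, ← h11 _ (Equiv.Perm.apply_mem_support.2 hx)]
      exact DFunLike.congr_fun (pow_two c ▸ h12) x
    interval_cases n <;> simp_all
  have h3 : σ.cycleType.sum = Fintype.card α := by
    rw [Equiv.Perm.sum_cycleType, ← Finset.card_univ]
    congr 1
    exact Finset.eq_univ_iff_forall.2 fun x => Equiv.Perm.mem_support.2 fun h => h2 x (by rw [h, h])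
  rw [Equiv.Perm.sign_of_cycleType, neg_one_pow_eq_one_iff_even (by decide)] at hs
  rw [← h3]
  rw [Multiset.eq_replicate_card.2 h1, Multiset.sum_replicate, Multiset.card_replicate, smul_eq_mul] at hs
  rw [Multiset.eq_replicate_card.2 h1, Multiset.sum_replicate, smul_eq_mul]
  obtain ⟨k, hk⟩ := hs
  omega

variable {F V : Type*} [Field F] [AddCommGroup V] [Module F V] {Q : QuadraticForm F V}

/-- the permutation of a quadric -/
def qp (Q : QuadraticForm F V) (c : F) : O Q →* Equiv.Perm {x : V // Q x = c} where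
  toFun g :=
    { toFun := fun x => ⟨(g : V ≃ₗ[F] V) x, by rw [mem_O.1 g.2]; exact x.2⟩
      invFun := fun x => ⟨((g⁻¹ : O Q) : V ≃ₗ[F] V) x, by rw [mem_O.1 (g⁻¹).2]; exact x.2⟩
      left_inv := fun x => Subtype.ext ((g : V ≃ₗ[F] V).symm_apply_apply x)
      right_inv := fun x => Subtype.ext ((g : V ≃ₗ[F] V).apply_symm_apply x) }
  map_one' := by ext x; rfl
  map_mul' g h := by ext x; rfl

theorem eight_dvd_quadric [Finite V] (hG : Good Q) {J : V ≃ₗ[F] V} (hJ : J ∈ E Q) (h4 : ∀ x, J (J (J (J x))) = x) {c : F}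
    (h2 : ∀ x, Q x = c → J (J x) ≠ x) : 8 ∣ Nat.card {x : V // Q x = c} := by
  classical
  have := Fintype.ofFinite {x : V // Q x = c}
  rw [Nat.card_eq_fintype_card]
  refine eight_dvd (σ := qp Q c ⟨J, E_le_O hJ⟩) (Equiv.ext fun x => Subtype.ext (h4 x))
    (fun x hx => h2 x x.2 (congrArg Subtype.val hx)) ?_
  have h1 : (⟨J, E_le_O hJ⟩ : O Q) ∈ commutator (O Q) := by
    rw [← hG.commutator_eq_E, ← Subgroup.map_subtype_commutator] at hJ
    obtain ⟨y, hy, rfl⟩ := hJ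
    exact hy
  exact Abelianization.commutator_subset_ker (Equiv.Perm.sign.comp (qp Q c)) h1

/-- the main step -/
theorem conj_seven [Finite V] (h3 : Three F) (hG : Good Q) (hd : finrank F V = 7)
    (hz : ∀ (u : V) (hq : Q u ≠ 0), Q u = -1 → zz Q u hq ∈ E Q) (hp : ¬ 8 ∣ Nat.card {x : V // Q x = 1})
    (hm : ¬ 8 ∣ Nat.card {x : V // Q x = -1}) {g : V ≃ₗ[F] V} (hE : g ∈ E Q) {j e : ℕ} (he : (g ^ (2 * j)) ^ 2 ^ e = 1) :
    ∃ c ∈ E Q, ∀ x, c (g x) = (g ^ (2 * j)) (g (c x)) := by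
  have : FiniteDimensional F V := Module.finite_of_finrank_pos (by omega)
  have hg := E_le_O hE
  by_cases h1 : ∀ x ∈ (⊤ : Submodule F V), (g ^ (2 * j)) x = x
  · exact ⟨1, one_mem _, fun x => (h1 _ trivial).symm⟩
  rcases first_plane h3 hG.nondeg hg pr_top (fun _ _ => trivial) he h1 with ⟨u, -, hq, hu, h2⟩ | ⟨n, u, h4, hu, hq, hb⟩
  · exact ⟨_, hz u hq hu, fun x => h2 x trivial⟩
  have hJ := js_eig h3 hg pr_top (fun _ _ => trivial) h4
  have hJ' := hJ.next h3 hu hq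
  obtain ⟨v, hv, hqv⟩ := hJ'.exists h3 hG.nondeg hb
  have htt : g ^ (2 * n) * g ^ (2 * n) = 1 := LinearEquiv.ext fun x => h4 x trivial
  have r0 : finrank F (eig (g ^ (2 * n)) 1) + finrank F (⊤ ⊓ eig (g ^ (2 * n)) (-1) : Submodule F V) = 7 := by
    rw [top_inf_eq, ← Submodule.finrank_sup_add_finrank_inf_eq, eig_disjoint h3.two, eig_sup h3.two htt, finrank_top,
      finrank_bot, hd]
  have r1 := hJ.rank h3 hu hq
  have r2 := hJ'.rank h3 hv hqv
  by_cases hb' : Pl Q (g ^ n) (Pl Q (g ^ n) (⊤ ⊓ eig (g ^ (2 * n)) (-1)) u) v = ⊥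
  swap
  · exfalso
    obtain ⟨w, hw, hqw⟩ := (hJ'.next h3 hv hqv).exists h3 hG.nondeg hb'
    have r3 := (hJ'.next h3 hv hqv).rank h3 hw hqw
    obtain ⟨l, hl⟩ := finrank_le_one_iff.1 (show finrank F (eig (g ^ (2 * n)) 1) ≤ 1 by omega)
    have key : ∀ c : F, c ≠ 0 → c ≠ Q l → 8 ∣ Nat.card {x : V // Q x = c} := fun c hc hc' => by
      refine eight_dvd_quadric hG (pow_mem hE n) (fun x => ?_) fun x hx h5 => ?_
      · rw [← sq_apply, ← sq_apply, h4 x trivial]
      · obtain ⟨a, ha⟩ := hl ⟨x, mem_eig.2 (by rw [sq_apply, h5, one_smul])⟩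
        have h6 : a • (l : V) = x := congrArg Subtype.val ha
        rw [← h6, QuadraticMap.map_smul] at hx
        rcases h3.cases a with rfl | rfl | rfl
        · exact hc (by simpa using hx.symm)
        · exact hc' (by simpa using hx.symm)
        · exact hc' (by simpa using hx.symm)
    by_cases h5 : Q l = 1
    · exact hm (key _ (by simp) fun h6 => h3.two (by linear_combination -h6 - h5))
    · exact hp (key _ one_ne_zero fun h6 => h5 h6.symm)
  have hS : ∀ s : F, ∀ x ∈ eig (g ^ (2 * n)) s, g x ∈ eig (g ^ (2 * n)) s := fun s x hx =>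
    mem_eig.2 (by rw [comm_apply, mem_eig.1 hx, map_smul])
  have ho : ∀ x ∈ (⊤ ⊓ eig (g ^ (2 * n)) (-1) : Submodule F V), ∀ y ∈ eig (g ^ (2 * n)) 1, polar Q x y = 0 := by
    intro x hx y hy
    have h5 := polar_map (pow_mem hg (2 * n)) x y
    rw [mem_eig.1 hx.2, mem_eig.1 hy, one_smul, polar_smul_left, smul_eq_mul] at h5
    linear_combination h5 + polar Q x y * h3.three
  obtain ⟨c, hc, h5, h6⟩ := two_planes h3 hG hg hJ (fun x hx => ⟨trivial, hS _ x hx.2⟩) hu hq hv hqv hb' he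
  have ext : ∀ k : V ≃ₗ[F] V, (∀ x ∈ (⊤ ⊓ eig (g ^ (2 * n)) (-1) : Submodule F V), k (g x) = (g ^ (2 * j)) (g (k x))) →
      (∀ x ∈ eig (g ^ (2 * n)) 1, k (g x) = (g ^ (2 * j)) (g (k x))) → ∀ x, k (g x) = (g ^ (2 * j)) (g (k x)) := by
    intro k h7 h8 x
    obtain ⟨a, ha, b, hb, rfl⟩ := Submodule.mem_sup.1 (eig_sup h3.two htt ▸ Submodule.mem_top (x := x))
    simp only [map_add, h8 a ha, h7 b ⟨trivial, hb⟩]
  by_cases h7 : ∀ x ∈ eig (g ^ (2 * n)) 1, (g ^ (2 * j)) x = x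
  · refine ⟨c, hc, ext c h5 fun x hx => ?_⟩
    rw [h6 x fun y hy => ho y hy x hx, h6 _ fun y hy => ho y hy _ (hS _ x hx), h7 _ (hS _ x hx)]
  have hP : Pr Q (eig (g ^ (2 * n)) 1) := by
    simpa using pr_top.eig h3 (pow_mem hg (2 * n)) (fun _ _ => trivial) h4 (mul_one (1 : F))
  rcases first_plane h3 hG.nondeg hg hP (hS 1) he h7 with ⟨w, hw, hqw, hw1, h8⟩ | ⟨m, w, h8, hw, hqw, hbw⟩
  · have h9 : ∀ x ∈ (⊤ ⊓ eig (g ^ (2 * n)) (-1) : Submodule F V), zz Q w hqw x = -x := fun x hx => by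
      rw [zz_apply, polar_zero_of_comm (ho x hx w hw), mul_zero, zero_smul, add_zero]
    have h10 : ∀ x ∈ eig (g ^ (2 * n)) 1, c (zz Q w hqw x) = zz Q w hqw x := fun x hx =>
      h6 _ fun y hy => ho y hy _ (by rw [zz_apply]; exact add_mem (neg_mem hx) (Submodule.smul_mem _ _ hw))
    refine ⟨c * zz Q w hqw, mul_mem hc (hz w hqw hw1), ext _ (fun x hx => ?_) fun x hx => ?_⟩
    · show c (zz Q w hqw (g x)) = (g ^ (2 * j)) (g (c (zz Q w hqw x)))
      rw [h9 x hx, h9 _ ⟨trivial, hS _ x hx.2⟩, map_neg, map_neg, map_neg, map_neg, h5 x hx]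
    · show c (zz Q w hqw (g x)) = (g ^ (2 * j)) (g (c (zz Q w hqw x)))
      rw [h10 x hx, h10 _ (hS _ x hx), h8 x hx]
  · exfalso
    have hK := js_eig h3 hg hP (hS 1) h8
    obtain ⟨w', hw', hqw'⟩ := (hK.next h3 hw hqw).exists h3 hG.nondeg hbw
    have r3 := hK.rank h3 hw hqw
    have r4 := (hK.next h3 hw hqw).rank h3 hw' hqw'
    have r5 : finrank F (eig (g ^ (2 * n)) 1 ⊓ eig (g ^ (2 * m)) (-1) : Submodule F V) ≤
        finrank F (eig (g ^ (2 * n)) 1) := Submodule.finrank_mono inf_le_left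
    omega

theorem cP : (Finset.univ.filter fun v : I → ZMod 3 => v (.inl ()) ^ 2 + ∑ i : Fin 3, v (.inr (.inl i)) * v (.inr (.inr i)) =
    1).card = 756 := by decide +kernel

theorem card_P (hF : Nat.card F = 3) : Nat.card {v : I → F // oddForm 3 F v = 1} = 756 := by
  obtain ⟨e⟩ := ringEquiv hF
  rw [← cP, ← Fintype.card_subtype, ← Nat.card_eq_fintype_card]
  refine Nat.card_congr (Equiv.subtypeEquiv (Equiv.arrowCongr (Equiv.refl I) e.toEquiv) fun v => ?_)
  rw [Q_eq]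
  show _ ↔ (e (v (.inl ()))) ^ 2 + ∑ i : Fin 3, e (v (.inr (.inl i))) * e (v (.inr (.inr i))) = 1
  rw [← e.injective.eq_iff, map_add, map_pow, map_sum, map_one]
  simp only [map_mul]

open Cfsg.Agent.H237.OSevenC in
/-- **`Ω₇(3)`** -/
theorem allR_o73 [Fintype F] (hF : Fintype.card F = 3) : AllR (POmega F (quadFormOdd 3 F)) := by
  rw [← Nat.card_eq_fintype_card] at hF
  obtain ⟨hc, ⟨e⟩⟩ := card_E hF
  have : Finite ↥(E (oddForm 3 F)) := Nat.finite_of_card_ne_zero (by rw [hc]; norm_num)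
  have h3 : Three F := ⟨field_cases hF, by
    obtain ⟨φ⟩ := ringEquiv hF
    exact φ.injective (by rw [map_ofNat, map_zero]; rfl)⟩
  have hz : ∀ (u : I → F) (hq : oddForm 3 F u ≠ 0), oddForm 3 F u = -1 → zz (oddForm 3 F) u hq ∈ E (oddForm 3 F) := by
    intro u hq hu
    obtain ⟨k, hk, rfl⟩ := (good hF).trans_norm (v := v0 F) (v' := u) v0_ne
      (fun h => hq (by rw [h, QuadraticMap.map_zero])) ((Q_w 0 (-1)).trans hu.symm)
    rw [← zz_conj (E_le_O hk) (Qm 0) hq]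
    exact conj_mem_E (E_le_O hk) (zz_mem (good hF))
  refine AllR.congr e (allR_of_two fun g j e he => ?_)
  obtain ⟨c, hc, h⟩ := conj_seven h3 (good hF) finrank_V hz (by rw [card_P hF]; norm_num)
    (by rw [card_N hF]; norm_num) g.2 (j := j) (e := e) (congrArg Subtype.val he)
  refine isConj_iff.2 ⟨⟨c, hc⟩, ?_⟩
  rw [mul_inv_eq_iff_eq_mul, pow_succ]
  exact Subtype.ext (LinearEquiv.ext h)

end Cfsg.Agent.ODD.Exc
end

-- part: ODD/PX/Rows
section
set_option linter.all false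

/-!
# ODD, odd `q`: the rows `g2`, `f4`, `e7`, `e8`, `d4` of `BoxO` (helper4)
-/

set_option autoImplicit false

namespace Cfsg.Agent.ODD.PX

open Cfsg Cfsg.Agent.ODD.Cv

theorem rowO_f4 (hM : AH.Main) : RowO (ChevO Lie.chevF4) := plain_f4.rowO (rowS_f4 hM)

theorem rowO_e7 (hM : AH.Main) : RowO (ChevO Lie.chevE7) := plain_e7.rowO (rowS_e7 hM)

theorem rowO_e8 (hM : AH.Main) : RowO (ChevO Lie.chevE8) := plain_e8.rowO (rowS_e8 hM)

theorem rowO_d4 (hM : AH.Main) : RowO TwD4O := plain_d4.rowO (rowS_d4 hM)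

theorem rowO_g2' (hM : AH.Main) (h : RowO G23) : RowO (ChevO Lie.chevG2) := rowO_g2 (rowS_g2 hM) h

end Cfsg.Agent.ODD.PX
end
end
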